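import Mathlib
import Cfsg.Agent.Solvable.PGroupBasic

/-!
The critical case of the Hall–Higman theorem: tools.
-/

set_option autoImplicit false
set_option linter.style.haveILetI false
set_option linter.unusedSectionVars false

namespace CfsgLib.HallHigman

open Finset

/-- In characteristic `p` the binomial coefficients below `p ^ n - 1` are signs. -/
theorem cast_choose_pred {R : Type*} [Ring R] (p n : ℕ) [Fact p.Prime] [CharP R p] :
    ∀ i, i < p ^ n → (((p ^ n - 1).choose i : ℕ) : R) = (-1) ^ i := by
  intro i
  induction i with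
  | zero => simp
  | succ i ih =>
    intro hi
    have hpos : p ^ n - 1 + 1 = p ^ n :=
      Nat.sub_add_cancel (Nat.one_le_pow n p (Fact.out : p.Prime).pos)
    have h0 : (((p ^ n).choose (i + 1) : ℕ) : R) = 0 :=
      (CharP.cast_eq_zero_iff R p _).2
        ((Fact.out : p.Prime).dvd_choose_pow (Nat.succ_ne_zero i) (by omega))
    rw [← hpos, Nat.choose_succ_succ, Nat.cast_add, ih (by omega)] at h0
    rw [eq_neg_of_add_eq_zero_right h0, pow_succ, mul_neg_one]

/-- The trace polynomial in characteristic `p`. -/
theorem sum_pow_mul_pow {R : Type*} [Ring R] (p n : ℕ) [Fact p.Prime] [CharP R p]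
    {A B : R} (h : Commute A B) :
    ∑ i ∈ range (p ^ n), A ^ i * B ^ (p ^ n - 1 - i) = (A - B) ^ (p ^ n - 1) := by
  rw [sub_eq_add_neg, (h.neg_right).add_pow,
    Nat.sub_add_cancel (Nat.one_le_pow n p (Fact.out : p.Prime).pos)]
  refine sum_congr rfl fun i hi => ?_
  rw [mem_range] at hi
  rw [← Nat.choose_symm (show i ≤ p ^ n - 1 by omega), cast_choose_pred p n _ (by omega),
    neg_pow B, mul_assoc, mul_assoc]
  congr 1
  rw [← mul_assoc, ((Commute.neg_one_left B).pow_pow _ _).eq, mul_assoc, ← (Commute.refl (-1 : R)).mul_pow,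
    neg_one_mul, neg_neg, one_pow, mul_one]

variable {K : Type*} [Field K] {V : Type*} [AddCommGroup V] [Module K V]

/-- The common eigenspace of a family of operators. -/
def weight {ι : Type*} (F : ι → Module.End K V) (l : ι → K) : Submodule K V :=
  ⨅ a, Module.End.eigenspace (F a) (l a)

theorem mem_weight {ι : Type*} {F : ι → Module.End K V} {l : ι → K} {v : V} :
    v ∈ weight F l ↔ ∀ a, F a v = l a • v := by
  simp [weight, Submodule.mem_iInf, Module.End.mem_eigenspace_iff]

/-- A weight vector outside the span of other weight spaces vanishes. -/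
theorem eq_zero_of_mem_sup {ι : Type*} (F : ι → Module.End K V) (S : Finset (ι → K)) :
    ∀ (m : ι → K), m ∉ S → ∀ v, v ∈ weight F m → v ∈ S.sup (weight F) → v = 0 := by
  classical
  induction S using Finset.induction_on with
  | empty => intro m _ v _ hv; simpa using hv
  | @insert l S hl ih =>
    intro m hm v hv hv'
    rw [Finset.mem_insert, not_or] at hm
    rw [Finset.sup_insert] at hv'
    obtain ⟨w, hw, r, hr, rfl⟩ := Submodule.mem_sup.1 hv'
    obtain ⟨a, ha⟩ := Function.ne_iff.1 hm.1
    have hinv : ∀ u ∈ S.sup (weight F), F a u - l a • u ∈ S.sup (weight F) := by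
      intro u hu
      refine Finset.sup_induction (p := fun W : Submodule K V =>
        ∀ u ∈ W, F a u - l a • u ∈ W) ?_ ?_ ?_ u hu
      · intro u hu; rw [Submodule.mem_bot] at hu ⊢; simp [hu]
      · intro W₁ h₁ W₂ h₂ u hu
        obtain ⟨u₁, hu₁, u₂, hu₂, rfl⟩ := Submodule.mem_sup.1 hu
        refine Submodule.mem_sup.2 ⟨_, h₁ u₁ hu₁, _, h₂ u₂ hu₂, ?_⟩
        rw [map_add, smul_add]; abel
      · intro k _ u hu
        rw [mem_weight.1 hu a]
        exact sub_mem (Submodule.smul_mem _ _ hu) (Submodule.smul_mem _ _ hu)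
    have h1 := mem_weight.1 hv a
    have h2 := mem_weight.1 hw a
    have hkey : (m a - l a) • (w + r) = F a r - l a • r := by
      rw [sub_smul, ← h1, map_add, h2, smul_add]; abel
    have := ih m hm.2 _ (Submodule.smul_mem _ (m a - l a) hv) (hkey ▸ hinv r hr)
    exact (smul_eq_zero.1 this).resolve_left (sub_ne_zero.2 ha)

/-- Weight vectors with distinct weights are linearly independent. -/
theorem linearIndependent_weight {ι κ : Type*} (F : ι → Module.End K V) (v : κ → V) (l : κ → ι → K)
    (hl : Function.Injective l) (hv : ∀ j, v j ∈ weight F (l j)) (h0 : ∀ j, v j ≠ 0) :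
    LinearIndependent K v := by
  classical
  refine linearIndependent_iff_notMem_span.2 fun j hj => h0 j ?_
  obtain ⟨T, hT, hjT⟩ := Submodule.mem_span_finite_of_mem_span hj
  obtain ⟨J, hJ, rfl⟩ := Finset.subset_set_image_iff.1 hT
  refine eq_zero_of_mem_sup F (J.image l) (l j) ?_ _ (hv j) ?_
  · intro h
    obtain ⟨k, hk, hkj⟩ := Finset.mem_image.1 h
    exact (hJ hk).2 (hl hkj)
  · refine (Submodule.span_le.2 ?_) hjT
    intro u hu
    obtain ⟨k, hk, rfl⟩ := Finset.mem_image.1 hu
    exact Finset.le_sup (f := weight F) (Finset.mem_image_of_mem l hk) (hv k)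

/-- Pairwise commuting operators have a common eigenvector. -/
theorem exists_weight [IsAlgClosed K] [FiniteDimensional K V] [Nontrivial V] {ι : Type*}
    (F : ι → Module.End K V) (hF : ∀ a b, Commute (F a) (F b)) :
    ∃ l : ι → K, weight F l ≠ ⊥ := by
  suffices h : ∀ W : Submodule K V, W ≠ ⊥ → (∀ a, ∀ w ∈ W, F a w ∈ W) →
      ∃ l : ι → K, weight F l ≠ ⊥ from h ⊤ top_ne_bot fun _ _ _ => Submodule.mem_top
  intro W
  induction W using WellFoundedLT.induction with
  | ind W ih =>
    intro hW hWi
    by_cases hsc : ∀ a, ∃ c : K, ∀ w ∈ W, F a w = c • w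
    · choose c hc using hsc
      obtain ⟨w, hw, hw0⟩ := W.exists_mem_ne_zero_of_ne_bot hW
      refine ⟨c, fun hb => hw0 ?_⟩
      have : w ∈ weight F c := mem_weight.2 fun a => hc a w hw
      rwa [hb, Submodule.mem_bot] at this
    · push Not at hsc
      obtain ⟨a, ha⟩ := hsc
      haveI : Nontrivial W := Submodule.nontrivial_iff_ne_bot.2 hW
      obtain ⟨c, hc⟩ := Module.End.exists_eigenvalue ((F a).restrict (hWi a))
      obtain ⟨w, hw⟩ := hc.exists_hasEigenvector
      refine ih (W ⊓ Module.End.eigenspace (F a) c) (lt_of_le_of_ne inf_le_left fun he => ?_)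
        (fun hb => ?_) fun b u hu => ⟨hWi b u hu.1, ?_⟩
      · obtain ⟨u, hu, hu'⟩ := ha c
        exact hu' (Module.End.mem_eigenspace_iff.1 (he.ge hu).2)
      · have hmem : (w : V) ∈ W ⊓ Module.End.eigenspace (F a) c :=
          ⟨w.2, Module.End.mem_eigenspace_iff.2 (congrArg Subtype.val hw.apply_eq_smul)⟩
        rw [hb, Submodule.mem_bot] at hmem
        exact hw.2 (Subtype.ext hmem)
      · rw [SetLike.mem_coe, Module.End.mem_eigenspace_iff] at *
        have := LinearMap.congr_fun (hF a b).eq u
        rw [Module.End.mul_apply, Module.End.mul_apply] at this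
        rw [this, Module.End.mem_eigenspace_iff.1 hu.2, map_smul]

/-- A nilpotent operator on whose commutant the trace decomposition holds is one Jordan block. -/
theorem jordan_block [FiniteDimensional K V] {T : Module.End K V} {N s : ℕ} (hT0 : T ≠ 0)
    (hs : T ^ s = 0) (hmin : ∀ k < s, T ^ k ≠ 0) (hsN : s < N)
    (hdec : ∀ φ : Module.End K V, Commute φ T → ∃ (c : K) (f : Module.End K V),
      φ = c • 1 + ∑ a ∈ range N, T ^ a * f * T ^ (N - 1 - a)) :
    s + 1 = N ∧ Module.finrank K V = s := by
  have hs2 : 2 ≤ s := by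
    by_contra h
    interval_cases s
    · exact hT0 (by rw [← mul_one T, ← pow_zero T, hs, mul_zero])
    · exact hT0 (by simpa using hs)
  have hzero : ∀ k, s ≤ k → T ^ k = 0 := fun k hk => pow_eq_zero_of_le hk hs
  have hkill : ∀ (f : Module.End K V) (a : ℕ), a ∈ range N →
      T ^ (s - 1) * (T ^ a * f * T ^ (N - 1 - a)) = 0 := fun f a ha => by
    rw [mem_range] at ha
    rcases Nat.eq_zero_or_pos a with rfl | ha0
    · rw [hzero (N - 1 - 0) (by omega), mul_zero, mul_zero]
    · rw [← mul_assoc, ← mul_assoc, ← pow_add, hzero _ (by omega), zero_mul, zero_mul]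
  have hscal : ∀ (φ : Module.End K V) (c : K) (f : Module.End K V),
      φ = c • 1 + ∑ a ∈ range N, T ^ a * f * T ^ (N - 1 - a) → T ^ (s - 1) * φ = c • T ^ (s - 1) := by
    intro φ c f h
    rw [h, mul_add, mul_sum, sum_eq_zero (hkill f), add_zero, mul_smul_comm, mul_one]
  have hne : T ^ (s - 1) ≠ 0 := hmin _ (by omega)
  have hrange : ∀ (f : Module.End K V) (v : V) (m : ℕ), m + s ≤ N →
      (∑ a ∈ range N, T ^ a * f * T ^ (N - 1 - a)) v ∈ LinearMap.range (T ^ m) := by
    intro f v m hm
    rw [LinearMap.sum_apply]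
    refine Submodule.sum_mem _ fun a ha => ?_
    rw [mem_range] at ha
    rcases lt_or_ge a m with ham | ham
    · rw [hzero (N - 1 - a) (by omega), mul_zero, LinearMap.zero_apply]
      exact Submodule.zero_mem _
    · refine ⟨(T ^ (a - m) * f * T ^ (N - 1 - a)) v, ?_⟩
      rw [← Module.End.mul_apply, ← mul_assoc, ← mul_assoc, ← pow_add,
        show m + (a - m) = a by omega]
  refine ⟨?_, ?_⟩
  · -- the exponent
    by_contra hne'
    obtain ⟨c, f, hcf⟩ := hdec T (Commute.refl T)
    have hc : c = 0 := by
      have h1 := hscal T c f hcf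
      rw [← pow_succ, Nat.sub_add_cancel (by omega : 1 ≤ s), hs] at h1
      exact (smul_eq_zero.1 h1.symm).resolve_right hne
    rw [hc, zero_smul, zero_add] at hcf
    have hle : ∀ k, ∀ v, T v ∈ LinearMap.range (T ^ (k + 1)) := by
      intro k
      induction k with
      | zero => intro v; exact ⟨v, by rw [pow_one]⟩
      | succ k ih =>
        intro v
        obtain ⟨u, hu⟩ : T v ∈ LinearMap.range (T ^ 2) := by
          have h2 := hrange f v 2 (by omega)
          rwa [← hcf] at h2
        obtain ⟨w, hw⟩ := ih u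
        refine ⟨w, ?_⟩
        rw [pow_succ', Module.End.mul_apply, hw, ← Module.End.mul_apply, ← pow_two, hu]
    refine hT0 (LinearMap.ext fun v => ?_)
    obtain ⟨w, hw⟩ := hle (s - 1) v
    rw [← hw, hzero _ (by omega), LinearMap.zero_apply, LinearMap.zero_apply]
  · -- the dimension
    obtain ⟨w, hw⟩ : ∃ w, (T ^ (s - 1)) w ≠ 0 := by
      by_contra h
      push Not at h
      exact hne (LinearMap.ext h)
    obtain ⟨μ, hμ⟩ := Submodule.exists_dual_map_eq_bot_of_notMem
      (p := (⊥ : Submodule K V)) (by rwa [Submodule.mem_bot]) inferInstance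
    set u := (T ^ (s - 1)) w
    let ν : Module.Dual K V := (μ u)⁻¹ • μ
    have hν : ν u = 1 := by
      simp only [ν, LinearMap.smul_apply, smul_eq_mul]; exact inv_mul_cancel₀ hμ.1
    let e : Module.End K V := ∑ j ∈ range s, (ν ∘ₗ (T ^ j)).smulRight ((T ^ (s - 1 - j)) w)
    have he : ∀ v, e v = ∑ j ∈ range s, ν ((T ^ j) v) • (T ^ (s - 1 - j)) w := fun v => by
      simp [e]
    let g : V → ℕ → V := fun v j => ν ((T ^ j) v) • (T ^ (s - j)) w
    have hcomm : Commute e T := LinearMap.ext fun v => by
      have h1 : e (T v) = ∑ j ∈ range s, g v (j + 1) := by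
        rw [he]
        refine sum_congr rfl fun j _ => ?_
        rw [← Module.End.mul_apply, ← pow_succ, show s - 1 - j = s - (j + 1) by omega]
      have h2 : T (e v) = ∑ j ∈ range s, g v j := by
        rw [he, map_sum]
        refine sum_congr rfl fun j hj => ?_
        rw [mem_range] at hj
        rw [map_smul, ← Module.End.mul_apply, ← pow_succ', show s - 1 - j + 1 = s - j by omega]
      rw [Module.End.mul_apply, Module.End.mul_apply, h1, h2]
      have h3 := (sum_range_succ' (g v) s).symm.trans (sum_range_succ (g v) s)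
      have hg0 : g v 0 = 0 := by simp [g, hs]
      have hgs : g v s = 0 := by simp [g, hs]
      rwa [hg0, hgs, add_zero, add_zero] at h3
    obtain ⟨c, f, hcf⟩ := hdec e hcomm
    have heu : (T ^ (s - 1)) (e w) = u := by
      rw [← Module.End.mul_apply, ← ((hcomm.pow_right (s - 1)).eq), Module.End.mul_apply, he,
        sum_eq_single_of_mem 0 (mem_range.2 (by omega)) fun j hj hj0 => by
          rw [← Module.End.mul_apply, ← pow_add, hzero _ (by omega), LinearMap.zero_apply,
            map_zero, zero_smul]]
      rw [pow_zero, Module.End.one_apply, Nat.sub_zero]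
      show ν u • u = u
      rw [hν, one_smul]
    have hc : c = 1 := by
      have h1 := LinearMap.congr_fun (hscal e c f hcf) w
      rw [Module.End.mul_apply, heu, LinearMap.smul_apply] at h1
      by_contra hc
      have : (c - 1) • u = 0 := by rw [sub_smul, one_smul, ← h1, sub_self]
      exact hw ((smul_eq_zero.1 this).resolve_left (sub_ne_zero.2 hc))
    let S : Submodule K V := Submodule.span K (Set.range fun j : Fin s => (T ^ (j : ℕ)) w)
    have heS : ∀ v, e v ∈ S := fun v => by
      rw [he]
      refine Submodule.sum_mem _ fun j hj => Submodule.smul_mem _ _ (Submodule.subset_span ?_)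
      exact ⟨⟨s - 1 - j, by omega⟩, rfl⟩
    have hTS : ∀ v ∈ S, T v ∈ S := by
      intro v hv
      induction hv using Submodule.span_induction with
      | mem v hv =>
        obtain ⟨j, rfl⟩ := hv
        rw [← Module.End.mul_apply, ← pow_succ']
        rcases lt_or_ge ((j : ℕ) + 1) s with h | h
        · exact Submodule.subset_span ⟨⟨_, h⟩, rfl⟩
        · rw [hzero _ h]; exact Submodule.zero_mem _
      | zero => simp
      | add a b _ _ ha hb => rw [map_add]; exact add_mem ha hb
      | smul r a _ ha => rw [map_smul]; exact Submodule.smul_mem _ _ ha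
    have hone : ∀ k, ∀ v, ∃ a ∈ S, ∃ b, v = a + (T ^ k) b := by
      intro k
      induction k with
      | zero => exact fun v => ⟨0, S.zero_mem, v, by simp⟩
      | succ k ih =>
        intro v
        obtain ⟨a, ha, b, rfl⟩ := ih v
        obtain ⟨r, hr⟩ := hrange f b 1 (by omega)
        have hb : b = e b - T r := by
          rw [hcf, hc, one_smul, LinearMap.add_apply, ← hr, pow_one, Module.End.one_apply]
          abel
        have hmem : ∀ m, (T ^ m) (e b) ∈ S := fun m => by
          induction m with
          | zero => exact heS b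
          | succ m ihm => rw [pow_succ', Module.End.mul_apply]; exact hTS _ ihm
        refine ⟨a + (T ^ k) (e b), add_mem ha (hmem k), -r, ?_⟩
        rw [map_neg, pow_succ, Module.End.mul_apply, add_assoc, ← map_neg, ← map_add, ← sub_eq_add_neg,
          ← hb]
    have hS : S = ⊤ := eq_top_iff.2 fun v _ => by
      obtain ⟨a, ha, b, rfl⟩ := hone s v
      rw [hs, LinearMap.zero_apply, add_zero]; exact ha
    refine le_antisymm ?_ ?_
    · rw [← finrank_top K V, ← hS]
      exact (finrank_range_le_card _).trans (Fintype.card_fin s).le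
    · have hk : ∀ k ≤ s, k ≤ Module.finrank K (LinearMap.ker (T ^ k)) := by
        intro k
        induction k with
        | zero => simp
        | succ k ih =>
          intro hk
          have hlt : LinearMap.ker (T ^ k) < LinearMap.ker (T ^ (k + 1)) := by
            refine lt_of_le_of_ne (fun v hv => ?_) fun heq => ?_
            · rw [LinearMap.mem_ker] at hv ⊢
              rw [pow_succ', Module.End.mul_apply, hv, map_zero]
            · have hmem : (T ^ (s - 1 - k)) w ∈ LinearMap.ker (T ^ (k + 1)) := by
                rw [LinearMap.mem_ker, ← Module.End.mul_apply, ← pow_add, hzero _ (by omega),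
                  LinearMap.zero_apply]
              rw [← heq, LinearMap.mem_ker, ← Module.End.mul_apply, ← pow_add,
                show k + (s - 1 - k) = s - 1 by omega] at hmem
              exact hw hmem
          have := Submodule.finrank_lt_finrank_of_lt hlt
          have := ih (by omega)
          omega
      exact (hk s le_rfl).trans (Submodule.finrank_le _)

section Rep

variable {G : Type*} [Group G] (ρ : Representation K G V) (Q : Subgroup G)

theorem schur [IsAlgClosed K] [FiniteDimensional K V] [Nontrivial V]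
    (hirr : ∀ W : Submodule K V, (∀ g ∈ Q, Submodule.map (ρ g) W ≤ W) → W = ⊥ ∨ W = ⊤)
    {f : Module.End K V} (hf : ∀ g ∈ Q, Commute f (ρ g)) : ∃ c : K, f = c • 1 := by
  obtain ⟨c, hc⟩ := Module.End.exists_eigenvalue f
  refine ⟨c, ?_⟩
  have hW : ∀ g ∈ Q, Submodule.map (ρ g) (Module.End.eigenspace f c) ≤
      Module.End.eigenspace f c := by
    rintro g hg _ ⟨v, hv, rfl⟩
    rw [SetLike.mem_coe, Module.End.mem_eigenspace_iff] at hv
    rw [Module.End.mem_eigenspace_iff, ← Module.End.mul_apply, (hf g hg).eq, Module.End.mul_apply,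
      hv, map_smul]
  rcases hirr _ hW with h | h
  · exact absurd h hc
  · refine LinearMap.ext fun v => ?_
    have := Module.End.mem_eigenspace_iff.1 (h.ge (Submodule.mem_top (x := v)))
    simpa using this

theorem burnside [IsAlgClosed K] [FiniteDimensional K V] [Nontrivial V]
    (hirr : ∀ W : Submodule K V, (∀ g ∈ Q, Submodule.map (ρ g) W ≤ W) → W = ⊥ ∨ W = ⊤)
    (f : Module.End K V) : f ∈ Submodule.span K (ρ '' (Q : Set G)) := by
  classical
  set A := Algebra.adjoin K (ρ '' (Q : Set G)) with hA
  have hAspan : (Subalgebra.toSubmodule A) ≤ Submodule.span K (ρ '' (Q : Set G)) := by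
    let M : Submonoid (Module.End K V) := Q.toSubmonoid.map ρ
    have hM : Submonoid.closure (ρ '' (Q : Set G)) ≤ M := Submonoid.closure_le.2 subset_rfl
    rw [hA, Algebra.adjoin_eq_span]
    exact Submodule.span_mono hM
  have hgA : ∀ g ∈ Q, ρ g ∈ A := fun g hg => Algebra.subset_adjoin ⟨g, hg, rfl⟩
  haveI : IsSimpleModule A V := by
    refine { eq_bot_or_eq_top := fun W => ?_ }
    have hW : ∀ g ∈ Q, Submodule.map (ρ g) (W.restrictScalars K) ≤ W.restrictScalars K := by
      rintro g hg _ ⟨v, hv, rfl⟩
      exact W.smul_mem ⟨ρ g, hgA g hg⟩ hv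
    rcases hirr _ hW with h | h
    · exact Or.inl ((Submodule.restrictScalars_eq_bot_iff K A V).1 h)
    · exact Or.inr ((Submodule.restrictScalars_eq_top_iff K A V).1 h)
  let F : Module.End (Module.End A V) V :=
    { toFun := f
      map_add' := map_add f
      map_smul' := fun φ v => by
        obtain ⟨c, hc⟩ := schur ρ Q hirr (f := φ.restrictScalars K) fun g hg =>
          LinearMap.ext fun u => φ.map_smul ⟨ρ g, hgA g hg⟩ u
        have hc' : ∀ u, φ u = c • u := fun u => LinearMap.congr_fun hc u
        show f (φ v) = φ (f v)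
        rw [hc', hc', map_smul] }
  let b := Module.finBasis K V
  obtain ⟨a, ha⟩ := jacobson_density F (Finset.univ.image b)
  have : f = (a : Module.End K V) := b.ext fun i =>
    ha _ (Finset.mem_image_of_mem b (Finset.mem_univ i))
  exact hAspan (this ▸ a.2)

end Rep

end CfsgLib.HallHigman
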