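import Mathlib
import Cfsg.Agent.HallHigman.Critical
import Cfsg.Agent.S4282

/-!
Theorem B of Hall and Higman: reduction to the critical case.
-/

set_option autoImplicit false
set_option linter.style.haveILetI false
set_option linter.unusedSectionVars false

namespace CfsgLib.HallHigman

open Finset
open scoped commutatorElement

universe u v w

/-- The conclusion of theorem B, for a `q`-group `Q` and a bound `s`. -/
def HBound {G : Type*} [Group G] (p q n s : ℕ) (Q : Subgroup G) : Prop :=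
  p ^ n ≤ s ∨ ∃ n₀ m : ℕ, 1 ≤ n₀ ∧ n₀ ≤ n ∧ 1 ≤ m ∧ p ^ n₀ - 1 = q ^ m ∧
    p ^ (n - n₀) * (p ^ n₀ - 1) ≤ s ∧ ∃ a ∈ Q, ∃ b ∈ Q, a * b ≠ b * a

theorem HBound.of_hom {G H : Type*} [Group G] [Group H] {p q n s : ℕ} {Q : Subgroup G}
    {Q' : Subgroup H} (f : G →* H) (hQ : Q' ≤ Q.map f) (h : HBound p q n s Q') :
    HBound p q n s Q := by
  rcases h with h | ⟨n₀, m, h1, h2, h3, h4, h5, a, ha, b, hb, hne⟩
  · exact Or.inl h
  · obtain ⟨a', ha', rfl⟩ := hQ ha
    obtain ⟨b', hb', rfl⟩ := hQ hb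
    exact Or.inr ⟨n₀, m, h1, h2, h3, h4, h5, a', ha', b', hb', fun e => hne (by
      rw [← map_mul, e, map_mul])⟩

theorem HBound.of_map {G H : Type*} [Group G] [Group H] {p q n s : ℕ} {Q : Subgroup G}
    {Q' : Subgroup H} (f : G →* H) (hf : Function.Injective f) (hQ : Q.map f ≤ Q')
    (h : HBound p q n s Q) : HBound p q n s Q' := by
  rcases h with h | ⟨n₀, m, h1, h2, h3, h4, h5, a, ha, b, hb, hne⟩
  · exact Or.inl h
  · exact Or.inr ⟨n₀, m, h1, h2, h3, h4, h5, f a, hQ ⟨a, ha, rfl⟩, f b, hQ ⟨b, hb, rfl⟩,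
      fun e => hne (hf (by rw [map_mul, map_mul, e]))⟩

/-- Some commutator of `y` with `Q` acts non-trivially. -/
def Moves {G K V : Type*} [Group G] [Field K] [AddCommGroup V] [Module K V]
    (ρ : Representation K G V) (Q : Subgroup G) (y : G) : Prop :=
  ∃ g ∈ Q, ρ (g * y * g⁻¹ * y⁻¹) ≠ 1

section Tools

variable {K : Type w} [Field K] {G : Type u} [Group G] {V : Type v} [AddCommGroup V] [Module K V]
variable (ρ : Representation K G V)

theorem rep_mul (a b : G) (v : V) : ρ (a * b) v = ρ a (ρ b v) := by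
  rw [map_mul, Module.End.mul_apply]

theorem rep_inv_self (a : G) (v : V) : ρ a⁻¹ (ρ a v) = v := by
  rw [← rep_mul, inv_mul_cancel, map_one, Module.End.one_apply]

theorem rep_self_inv (a : G) (v : V) : ρ a (ρ a⁻¹ v) = v := by
  rw [← rep_mul, mul_inv_cancel, map_one, Module.End.one_apply]

/-- The representation of a subgroup on an invariant subspace. -/
def subRep (H : Subgroup G) (W : Submodule K V) (hW : ∀ h ∈ H, ∀ w ∈ W, ρ h w ∈ W) :
    Representation K H W where
  toFun h := (ρ (h : G)).restrict (hW h h.2)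
  map_one' := LinearMap.ext fun w => Subtype.ext (by simp [LinearMap.restrict_apply])
  map_mul' a b := LinearMap.ext fun w => Subtype.ext (by simp [LinearMap.restrict_apply])

theorem subRep_apply (H : Subgroup G) (W : Submodule K V) (hW : ∀ h ∈ H, ∀ w ∈ W, ρ h w ∈ W)
    (h : H) (w : W) : ((subRep ρ H W hW h w : W) : V) = ρ (h : G) (w : V) := rfl

theorem subRep_sub_one_pow (H : Subgroup G) (W : Submodule K V)
    (hW : ∀ h ∈ H, ∀ w ∈ W, ρ h w ∈ W) (h : H) (s : ℕ) :
    ∀ w : W, ((((subRep ρ H W hW h - 1) ^ s) w : W) : V) = ((ρ (h : G) - 1) ^ s) (w : V) := by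
  induction s with
  | zero => intro w; simp
  | succ s ih =>
    intro w
    rw [pow_succ', pow_succ', Module.End.mul_apply, Module.End.mul_apply]
    simp only [LinearMap.sub_apply, Module.End.one_apply, Submodule.coe_sub, subRep_apply, ih]

/-- The representation on an invariant quotient. -/
noncomputable def quotRep (W : Submodule K V) (hW : ∀ g : G, ∀ w ∈ W, ρ g w ∈ W) :
    Representation K G (V ⧸ W) where
  toFun g := W.mapQ W (ρ g) (fun w hw => hW g w hw)
  map_one' := by
    ext x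
    simp
  map_mul' a b := by
    ext x
    simp

theorem quotRep_apply (W : Submodule K V) (hW : ∀ g : G, ∀ w ∈ W, ρ g w ∈ W) (g : G) (v : V) :
    quotRep ρ W hW g (Submodule.Quotient.mk v) = Submodule.Quotient.mk (ρ g v) := rfl

theorem quotRep_sub_one_pow (W : Submodule K V) (hW : ∀ g : G, ∀ w ∈ W, ρ g w ∈ W) (g : G) (s : ℕ)
    (h : (ρ g - 1) ^ s = 0) : (quotRep ρ W hW g - 1) ^ s = 0 := by
  have key : ∀ (j : ℕ) (v : V), ((quotRep ρ W hW g - 1) ^ j) (Submodule.Quotient.mk v) =
      Submodule.Quotient.mk (((ρ g - 1) ^ j) v) := by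
    intro j
    induction j with
    | zero => intro v; simp
    | succ j ih =>
      intro v
      rw [pow_succ', pow_succ', Module.End.mul_apply, Module.End.mul_apply, ih]
      simp [quotRep_apply]
  refine LinearMap.ext fun x => ?_
  obtain ⟨v, rfl⟩ := Submodule.Quotient.mk_surjective W x
  rw [key, h]
  simp

/-- An element of order prime to the characteristic which stabilises a chain of length two acts
trivially. -/
theorem rep_eq_one_of_sq {p q : ℕ} [CharP K p] (hp : p.Prime) (hq : q.Prime) (hpq : p ≠ q) {c : G}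
    {k : ℕ} (hc : c ^ q ^ k = 1) (h2 : (ρ c - 1) * (ρ c - 1) = 0) : ρ c = 1 := by
  set N := ρ c - 1 with hN
  have hpow : ∀ j : ℕ, (1 + N) ^ j = 1 + (j : K) • N := by
    intro j
    induction j with
    | zero => simp
    | succ j ih =>
      rw [pow_succ, ih, add_mul, one_mul, mul_add, mul_one, smul_mul_assoc, h2, smul_zero, add_zero,
        Nat.cast_succ, add_smul, one_smul]
      abel
  have h1 : (1 + N) ^ (q ^ k) = 1 := by rw [hN, add_sub_cancel, ← map_pow, hc, map_one]
  rw [hpow, add_eq_left] at h1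
  have hne : ((q ^ k : ℕ) : K) ≠ 0 := by
    rw [Ne, CharP.cast_eq_zero_iff K p]
    exact fun hd => hpq ((Nat.prime_dvd_prime_iff_eq hp hq).1 (hp.dvd_of_dvd_pow hd))
  exact sub_eq_zero.1 ((smul_eq_zero.1 h1).resolve_left hne)

end Tools

variable (p q : ℕ) [Fact p.Prime] [Fact q.Prime] (K : Type w) [Field K] [IsAlgClosed K] [CharP K p]

/-- Theorem B for a fixed exponent, with all its reductions still to be made. -/
def HHStatement (n : ℕ) : Prop :=
  ∀ (G : Type u) [Group G] [Finite G] (V : Type v) [AddCommGroup V] [Module K V]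
    [FiniteDimensional K V] (ρ : Representation K G V) (Q : Subgroup G) (x : G),
    IsPGroup q Q → x ∈ Subgroup.normalizer (Q : Set G) → x ^ p ^ n = 1 →
    Moves ρ Q (x ^ p ^ (n - 1)) → ∀ s : ℕ, (ρ x - 1) ^ s = 0 → HBound p q n s Q

variable {p q K}

section Final

variable {G : Type u} [Group G] [Finite G] {V : Type v} [AddCommGroup V] [Module K V]
  [FiniteDimensional K V] (ρ : Representation K G V) (R : Subgroup G)

/-- When the centre of `R` acts by scalars, all irreducible constituents of `R` are isomorphic and,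
as `G / R` is cyclic, `R` is irreducible. -/
theorem irreducible_of_scalar (hfaith : Function.Injective ρ) (x : G) [R.Normal]
    (hgen : R ⊔ Subgroup.zpowers x = ⊤) [Nontrivial V]
    (hirr : ∀ W : Submodule K V, (∀ g : G, ∀ w ∈ W, ρ g w ∈ W) → W = ⊥ ∨ W = ⊤)
    (hscal : ∀ z ∈ R, (∀ g ∈ R, g * z = z * g) → ∃ c : K, ρ z = c • 1)
    (hcl : ∀ g ∈ R, ∀ h ∈ R, ∀ k ∈ R, k * (g * h * g⁻¹ * h⁻¹) = (g * h * g⁻¹ * h⁻¹) * k) :
    ∀ W : Submodule K V, (∀ g ∈ R, Submodule.map (ρ g) W ≤ W) → W = ⊥ ∨ W = ⊤ := by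
  classical
  haveI : Fintype G := Fintype.ofFinite G
  -- invariant subspaces
  let Inv : Submodule K V → Prop := fun W => ∀ g ∈ R, ∀ w ∈ W, ρ g w ∈ W
  obtain ⟨U, ⟨hU0, hUi⟩, hUmin⟩ := wellFounded_lt.has_min
    {W : Submodule K V | W ≠ ⊥ ∧ Inv W} ⟨⊤, top_ne_bot, fun _ _ _ _ => Submodule.mem_top⟩
  have hUirr : ∀ W ≤ U, Inv W → W = ⊥ ∨ W = U := by
    intro W hWU hWi
    by_cases hW : W = ⊥
    · exact Or.inl hW
    · exact Or.inr ((eq_or_lt_of_le hWU).resolve_right (hUmin W ⟨hW, hWi⟩))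
  haveI : Nontrivial U := Submodule.nontrivial_iff_ne_bot.2 hU0
  -- the commutator pairing
  have hχ : ∀ r ∈ R, ∀ g ∈ R, ∃ c : K, ρ (g * r * g⁻¹ * r⁻¹) = c • 1 := fun r hr g hg =>
    hscal _ (mul_mem (mul_mem (mul_mem hg hr) (inv_mem hg)) (inv_mem hr))
      fun k hk => hcl g hg r hr k hk
  choose χ₀ hχ₀ using hχ
  have hone : ∀ {a b : K}, a • (1 : Module.End K V) = b • 1 → a = b := fun {a b} h =>
    smul_left_injective K one_ne_zero h
  let χ : ↥R → (↥R →* K) := fun r =>
    { toFun := fun g => χ₀ r r.2 g g.2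
      map_one' := hone (by rw [← hχ₀]; simp)
      map_mul' := fun g h => hone (by
        rw [← hχ₀, mul_smul]
        have e : ((g * h : ↥R) : G) * r * ((g * h : ↥R) : G)⁻¹ * (r : G)⁻¹ =
            ((g : G) * ((h : G) * r * (h : G)⁻¹ * (r : G)⁻¹) * (g : G)⁻¹) *
              ((g : G) * r * (g : G)⁻¹ * (r : G)⁻¹) := by
          simp only [Subgroup.coe_mul]; group
        rw [e, hcl h h.2 r r.2 g g.2, mul_inv_cancel_right, map_mul, hχ₀ r r.2 h h.2,
          hχ₀ r r.2 g g.2]
        simp only [mul_smul_comm, mul_one]) }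
  have hconj : ∀ (r g : ↥R), ρ (g : G) * ρ (r : G) = χ r g • (ρ (r : G) * ρ (g : G)) := by
    intro r g
    rw [← map_mul, ← map_mul,
      show (g : G) * r = ((g : G) * r * (g : G)⁻¹ * (r : G)⁻¹) * (r * g) by group, map_mul,
      hχ₀ r r.2 g g.2, smul_mul_assoc, one_mul]
    rfl
  -- elements with the same pairing differ by a scalar
  have hsame : ∀ r r' : ↥R, χ r = χ r' → ∃ c : K, ρ (r' : G) = c • ρ (r : G) := by
    intro r r' h
    obtain ⟨c, hc⟩ := hscal ((r' : G) * (r : G)⁻¹) (mul_mem r'.2 (inv_mem r.2)) fun g hg => by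
      have h1 : g * (r : G) * g⁻¹ * (r : G)⁻¹ = g * (r' : G) * g⁻¹ * (r' : G)⁻¹ := hfaith (by
        rw [hχ₀ r r.2 g hg, hχ₀ r' r'.2 g hg]
        exact congrArg (fun φ : ↥R →* K => φ ⟨g, hg⟩ • (1 : Module.End K V)) h)
      have h2 := hcl g hg r' r'.2 (r : G) r.2
      set d := g * (r' : G) * g⁻¹ * (r' : G)⁻¹ with hd
      have e1 : g * (r : G) * g⁻¹ = d * r := by rw [← h1]; group
      have e2 : g * (r' : G) * g⁻¹ = d * r' := by rw [hd]; group
      have e3 : g * ((r' : G) * (r : G)⁻¹) * g⁻¹ = (r' : G) * (r : G)⁻¹ := by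
        rw [show g * ((r' : G) * (r : G)⁻¹) * g⁻¹ = (g * r' * g⁻¹) * (g * r * g⁻¹)⁻¹ by group,
          e1, e2, mul_inv_rev]
        have h3 := hcl g hg r' r'.2 ((r' : G) * (r : G)⁻¹) (mul_mem r'.2 (inv_mem r.2))
        rw [← hd] at h3
        rw [← mul_assoc, mul_assoc d, ← h3]
        group
      calc g * ((r' : G) * (r : G)⁻¹) = (g * ((r' : G) * (r : G)⁻¹) * g⁻¹) * g := by group
        _ = (r' : G) * (r : G)⁻¹ * g := by rw [e3]
    refine ⟨c, ?_⟩
    rw [show (r' : G) = ((r' : G) * (r : G)⁻¹) * r by group, map_mul, hc, smul_mul_assoc, one_mul]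
  -- the span of `R` restricts faithfully to every invariant subspace
  let A : Submodule K (Module.End K V) := Submodule.span K (ρ '' (R : Set G))
  have hAinj : ∀ a ∈ A, ∀ W : Submodule K V, W ≠ ⊥ → Inv W → (∀ w ∈ W, a w = 0) → a = 0 := by
    intro a ha W hW hWi h0
    have himg : ρ '' (R : Set G) = Set.range fun r : ↥R => ρ (r : G) := by ext f; simp
    rw [show A = Submodule.span K (Set.range fun r : ↥R => ρ (r : G)) by rw [← himg],
      Submodule.mem_span_range_iff_exists_fun] at ha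
    obtain ⟨c, rfl⟩ := ha
    -- twist by conjugation
    have htw : ∀ g : ↥R, ∀ w ∈ W, ∑ r : ↥R, (c r * χ r g) • ρ (r : G) w = 0 := by
      intro g w hw
      have h1 : ρ (g : G) ((∑ r : ↥R, c r • ρ (r : G)) (ρ ((g : G)⁻¹) w)) = 0 := by
        rw [h0 _ (hWi _ (inv_mem g.2) w hw), map_zero]
      rw [← h1, LinearMap.sum_apply, map_sum]
      refine Finset.sum_congr rfl fun r _ => ?_
      rw [LinearMap.smul_apply, map_smul, ← Module.End.mul_apply, hconj, LinearMap.smul_apply,
        Module.End.mul_apply, rep_self_inv, smul_smul]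
    refine Eq.trans ?_ (Finset.sum_const_zero (s := Finset.univ.image χ))
    rw [← Finset.sum_fiberwise_of_maps_to (g := χ) (t := Finset.univ.image χ)
      (fun r _ => Finset.mem_image_of_mem χ (Finset.mem_univ r))]
    refine Finset.sum_congr rfl fun φ hφ => ?_
    obtain ⟨r₀, -, hr₀⟩ := Finset.mem_image.1 hφ
    have hd : ∀ r ∈ (Finset.univ.filter fun r => χ r = φ), ∃ d : K,
        ρ (r : G) = d • ρ (r₀ : G) := fun r hr =>
      hsame r₀ r (by rw [(Finset.mem_filter.1 hr).2, hr₀])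
    choose! d hd using hd
    set S := Finset.univ.filter fun r => χ r = φ
    have hS : ∑ r ∈ S, c r • ρ (r : G) = (∑ r ∈ S, c r * d r) • ρ (r₀ : G) := by
      rw [Finset.sum_smul]
      exact Finset.sum_congr rfl fun r hr => by rw [hd r hr, smul_smul]
    rw [hS]
    obtain ⟨w, hw, hw0⟩ := W.exists_mem_ne_zero_of_ne_bot hW
    -- independence of characters
    have hli := linearIndependent_monoidHom ↥R K
    obtain ⟨μ, hμ⟩ : ∃ μ : Module.Dual K V, μ (ρ (r₀ : G) w) ≠ 0 := by
      by_contra hcon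
      push Not at hcon
      have hz : ρ (r₀ : G) w = 0 := (Module.forall_dual_apply_eq_zero_iff K _).1 hcon
      exact hw0 (by rw [← rep_inv_self ρ (r₀ : G) w, hz, map_zero])
    have hsum : ∑ φ' ∈ Finset.univ.image χ,
        (∑ r ∈ Finset.univ.filter (fun r => χ r = φ'), c r * μ (ρ (r : G) w)) •
          (φ' : ↥R → K) = 0 := by
      funext g
      rw [Finset.sum_apply]
      simp only [Pi.smul_apply, smul_eq_mul, Pi.zero_apply, Finset.sum_mul]
      have h2 := congrArg μ (htw g w hw)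
      simp only [map_sum, map_smul, smul_eq_mul, map_zero] at h2
      rw [← h2, ← Finset.sum_fiberwise_of_maps_to (g := χ) (t := Finset.univ.image χ)
        (fun r _ => Finset.mem_image_of_mem χ (Finset.mem_univ r))]
      refine Finset.sum_congr rfl fun φ' _ => Finset.sum_congr rfl fun r hr => ?_
      rw [(Finset.mem_filter.1 hr).2]
      ring
    have hcoef := linearIndependent_iff'.1 hli (Finset.univ.image χ)
      (fun φ' => ∑ r ∈ Finset.univ.filter (fun r => χ r = φ'), c r * μ (ρ (r : G) w)) hsum φ hφ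
    have heq : (∑ r ∈ S, c r * μ (ρ (r : G) w)) = (∑ r ∈ S, c r * d r) * μ (ρ (r₀ : G) w) := by
      rw [Finset.sum_mul]
      refine Finset.sum_congr rfl fun r hr => ?_
      rw [hd r hr, LinearMap.smul_apply, map_smul, smul_eq_mul, mul_assoc]
    have hz : (∑ r ∈ S, c r * d r) = 0 :=
      (mul_eq_zero.1 (heq ▸ hcoef)).resolve_right hμ
    rw [hz, zero_smul]
  -- lifting endomorphisms of `U`
  let ρU := subRep ρ R U hUi
  have hUirr' : ∀ W : Submodule K U,
      (∀ g ∈ (⊤ : Subgroup ↥R), Submodule.map (ρU g) W ≤ W) → W = ⊥ ∨ W = ⊤ := by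
    intro W hW
    rcases hUirr (W.map U.subtype) (Submodule.map_subtype_le _ _) (fun g hg w hw => by
      obtain ⟨u, hu, rfl⟩ := hw
      exact ⟨ρU ⟨g, hg⟩ u, hW ⟨g, hg⟩ trivial ⟨u, hu, rfl⟩, rfl⟩) with h | h
    · exact Or.inl (Submodule.map_injective_of_injective U.injective_subtype (by simpa using h))
    · exact Or.inr (Submodule.map_injective_of_injective U.injective_subtype (by simpa using h))
  have hlift : ∀ f : Module.End K U, ∃ a ∈ A, ∀ u : U, a (u : V) = (f u : V) := by
    intro f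
    have hf := burnside ρU ⊤ hUirr' f
    induction hf using Submodule.span_induction with
    | mem f hf =>
      obtain ⟨g, -, rfl⟩ := hf
      exact ⟨ρ (g : G), Submodule.subset_span ⟨g, g.2, rfl⟩, fun u => rfl⟩
    | zero => exact ⟨0, zero_mem _, fun u => by simp⟩
    | add f₁ f₂ _ _ h₁ h₂ =>
      obtain ⟨a₁, ha₁, e₁⟩ := h₁
      obtain ⟨a₂, ha₂, e₂⟩ := h₂
      exact ⟨a₁ + a₂, add_mem ha₁ ha₂, fun u => by simp [e₁, e₂]⟩
    | smul t f _ h =>
      obtain ⟨a, ha, e⟩ := h
      exact ⟨t • a, Submodule.smul_mem _ _ ha, fun u => by simp [e]⟩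
  choose Φ hΦA hΦ using hlift
  have hΦuniq : ∀ a ∈ A, ∀ f : Module.End K U, (∀ u : U, a (u : V) = (f u : V)) → a = Φ f := by
    intro a ha f h
    rw [← sub_eq_zero]
    refine hAinj _ (sub_mem ha (hΦA f)) U hU0 hUi fun w hw => ?_
    rw [LinearMap.sub_apply, h ⟨w, hw⟩, ← hΦ f ⟨w, hw⟩, sub_self]
  have hAmul : ∀ g ∈ R, ∀ a ∈ A, ρ g * a ∈ A := by
    intro g hg a ha
    induction ha using Submodule.span_induction with
    | mem a ha =>
      obtain ⟨h, hh, rfl⟩ := ha
      exact Submodule.subset_span ⟨g * h, mul_mem hg hh, map_mul ρ g h⟩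
    | zero => simp
    | add a b _ _ ha hb => rw [mul_add]; exact add_mem ha hb
    | smul t a _ ha => rw [mul_smul_comm]; exact Submodule.smul_mem _ _ ha
  -- a twisted isomorphism of `U`
  obtain ⟨u₀, hu₀, hu₀0⟩ := U.exists_mem_ne_zero_of_ne_bot hU0
  obtain ⟨ν₀, hν₀⟩ : ∃ ν : Module.Dual K U, ν ⟨u₀, hu₀⟩ ≠ 0 := by
    by_contra hcon
    push Not at hcon
    exact hu₀0 (congrArg Subtype.val ((Module.forall_dual_apply_eq_zero_iff K _).1 hcon))
  let U' := U.map (ρ x)
  have hconjR : ∀ g ∈ R, x⁻¹ * g * x ∈ R := fun g hg => by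
    simpa using (inferInstance : R.Normal).conj_mem g hg x⁻¹
  have hU'i : Inv U' := by
    rintro g hg _ ⟨u, hu, rfl⟩
    refine ⟨ρ (x⁻¹ * g * x) u, hUi _ (hconjR g hg) u hu, ?_⟩
    rw [← rep_mul, ← rep_mul]
    congr 2
    group
  have hU'0 : U' ≠ ⊥ := fun hb => hu₀0 (by
    have : ρ x u₀ ∈ U' := ⟨u₀, hu₀, rfl⟩
    rw [hb, Submodule.mem_bot] at this
    rw [← rep_inv_self ρ x u₀, this, map_zero])
  obtain ⟨v₀, hv₀, hv₀e⟩ : ∃ v ∈ U', Φ (ν₀.smulRight ⟨u₀, hu₀⟩) v ≠ 0 := by
    by_contra hcon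
    push Not at hcon
    have h0 := hAinj _ (hΦA _) U' hU'0 hU'i hcon
    have := hΦ (ν₀.smulRight ⟨u₀, hu₀⟩) ⟨u₀, hu₀⟩
    rw [h0, LinearMap.zero_apply] at this
    rcases smul_eq_zero.1 (Subtype.ext this.symm : ν₀ ⟨u₀, hu₀⟩ • (⟨u₀, hu₀⟩ : U) = 0) with h | h
    · exact hν₀ h
    · exact hu₀0 (congrArg Subtype.val h)
  let f₀ : U →ₗ[K] V :=
    { toFun := fun u => Φ (ν₀.smulRight u) v₀
      map_add' := fun u u' => by
        rw [← LinearMap.add_apply, ← hΦuniq (Φ (ν₀.smulRight u) + Φ (ν₀.smulRight u'))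
          (add_mem (hΦA _) (hΦA _)) (ν₀.smulRight (u + u')) fun t => by simp [hΦ, smul_add]]
      map_smul' := fun t u => by
        rw [RingHom.id_apply, ← LinearMap.smul_apply,
          ← hΦuniq (t • Φ (ν₀.smulRight u)) (Submodule.smul_mem _ t (hΦA _))
            (ν₀.smulRight (t • u)) fun w => by
            rw [LinearMap.smul_apply, hΦ]
            exact congrArg Subtype.val (smul_comm t (ν₀ w) u)] }
  have hf₀U' : ∀ u, f₀ u ∈ U' := by
    intro u
    have hA : ∀ a ∈ A, a v₀ ∈ U' := fun a ha => by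
      induction ha using Submodule.span_induction with
      | mem a ha => obtain ⟨g, hg, rfl⟩ := ha; exact hU'i g hg v₀ hv₀
      | zero => simp
      | add a b _ _ ha hb => exact add_mem ha hb
      | smul t a _ ha => exact Submodule.smul_mem _ t ha
    exact hA _ (hΦA _)
  have hf₀eq : ∀ (g : G) (hg : g ∈ R) (u : U),
      f₀ ⟨ρ g u, hUi g hg u u.2⟩ = ρ g (f₀ u) := by
    intro g hg u
    show Φ _ v₀ = ρ g (Φ _ v₀)
    rw [← Module.End.mul_apply, ← hΦuniq (ρ g * Φ (ν₀.smulRight u)) (hAmul g hg _ (hΦA _))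
      (ν₀.smulRight ⟨ρ g u, hUi g hg u u.2⟩) fun t => by
        rw [Module.End.mul_apply, hΦ]
        exact map_smul (ρ g) (ν₀ t) (u : V)]
  have hf₀inj : Function.Injective f₀ := by
    rw [← LinearMap.ker_eq_bot]
    rcases hUirr' (LinearMap.ker f₀) (fun g _ => by
      rintro _ ⟨u, hu, rfl⟩
      rw [SetLike.mem_coe, LinearMap.mem_ker] at hu
      rw [LinearMap.mem_ker, show ρU g u = ⟨ρ (g : G) u, hUi g g.2 u u.2⟩ from rfl,
        hf₀eq (g : G) g.2, hu, map_zero]) with h | h
    · exact h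
    · exact absurd (LinearMap.mem_ker.1 (h.ge (Submodule.mem_top (x := ⟨u₀, hu₀⟩)))) hv₀e
  let a : U →ₗ[K] U := ((ρ x⁻¹).comp f₀).codRestrict U fun u => by
    obtain ⟨t, ht, e⟩ := hf₀U' u
    rw [LinearMap.comp_apply, ← e, rep_inv_self]
    exact ht
  have ha : ∀ u, ((a u : U) : V) = ρ x⁻¹ (f₀ u) := fun u => rfl
  have hainj : Function.Injective a := fun u u' h => hf₀inj (by
    rw [← rep_self_inv ρ x (f₀ u), ← ha, h, ha, rep_self_inv])
  have hasurj : Function.Surjective a := LinearMap.injective_iff_surjective.1 hainj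
  -- the operator on equivariant maps
  let E : Submodule K (U →ₗ[K] V) :=
    { carrier := {f | ∀ (g : G) (hg : g ∈ R) (u : U), f ⟨ρ g u, hUi g hg u u.2⟩ = ρ g (f u)}
      add_mem' := fun {f f'} hf hf' g hg u => by simp [hf g hg u, hf' g hg u]
      zero_mem' := fun g hg u => by simp
      smul_mem' := fun t f hf g hg u => by simp [hf g hg u] }
  let T : E →ₗ[K] E :=
    { toFun := fun f => ⟨(ρ x).comp ((f : U →ₗ[K] V).comp a), fun g hg u => by
        have e : a ⟨ρ g u, hUi g hg u u.2⟩ =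
            ⟨ρ (x⁻¹ * g * x) (a u : V), hUi _ (hconjR g hg) _ (a u).2⟩ := Subtype.ext (by
          rw [ha, hf₀eq g hg]
          show ρ x⁻¹ (ρ g (f₀ u)) = ρ (x⁻¹ * g * x) (ρ x⁻¹ (f₀ u))
          rw [← rep_mul, ← rep_mul, mul_inv_cancel_right])
        rw [LinearMap.comp_apply, LinearMap.comp_apply, e, f.2 _ (hconjR g hg),
          LinearMap.comp_apply, LinearMap.comp_apply, ← rep_mul, ← rep_mul]
        congr 2
        group⟩
      map_add' := fun f f' => Subtype.ext (by simp [LinearMap.add_comp, LinearMap.comp_add])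
      map_smul' := fun t f => Subtype.ext (by simp [LinearMap.smul_comp, LinearMap.comp_smul]) }
  haveI : Nontrivial E := by
    refine ⟨⟨⟨U.subtype, fun g hg u => rfl⟩, 0, fun h => hu₀0 ?_⟩⟩
    exact LinearMap.congr_fun (congrArg Subtype.val h) ⟨u₀, hu₀⟩
  obtain ⟨t, ht⟩ := Module.End.exists_eigenvalue T
  obtain ⟨f, hf⟩ := ht.exists_hasEigenvector
  have hfx : ∀ u, ρ x ((f : U →ₗ[K] V) (a u)) = t • (f : U →ₗ[K] V) u := fun u =>
    LinearMap.congr_fun (congrArg Subtype.val hf.apply_eq_smul) u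
  let S := LinearMap.range (f : U →ₗ[K] V)
  let M : Subgroup G :=
    { carrier := {g | S.map (ρ g) = S}
      one_mem' := by simp [Submodule.map_id, Module.End.one_eq_id]
      mul_mem' := fun {a b} ha hb => by
        simp only [Set.mem_setOf_eq] at *
        rw [map_mul, Module.End.mul_eq_comp, Submodule.map_comp, hb, ha]
      inv_mem' := fun {a} ha => by
        simp only [Set.mem_setOf_eq] at *
        conv_lhs => rw [← ha]
        rw [← Submodule.map_comp, ← Module.End.mul_eq_comp, ← map_mul, inv_mul_cancel, map_one,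
          Module.End.one_eq_id, Submodule.map_id] }
  have hle : ∀ g, S.map (ρ g) ≤ S → g ∈ M := fun g hg => by
    refine Submodule.eq_of_le_of_finrank_le hg (le_of_eq ?_)
    exact (LinearEquiv.finrank_eq (Submodule.equivMapOfInjective (ρ g)
      (fun v v' h => by rw [← rep_inv_self ρ g v, h, rep_inv_self]) S))
  have hM : M = ⊤ := by
    rw [eq_top_iff, ← hgen, sup_le_iff, Subgroup.zpowers_le]
    refine ⟨fun g hg => hle g ?_, hle x ?_⟩
    · rintro _ ⟨_, ⟨u, rfl⟩, rfl⟩
      exact ⟨_, f.2 g hg u⟩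
    · rintro _ ⟨_, ⟨u, rfl⟩, rfl⟩
      obtain ⟨u', rfl⟩ := hasurj u
      exact ⟨t • u', by rw [map_smul, hfx]⟩
  have hStop : S = ⊤ := by
    refine (hirr S fun g w hw => ?_).resolve_left fun hb => hf.2 (Subtype.ext ?_)
    · exact (show S.map (ρ g) = S from (hM ▸ Subgroup.mem_top g : g ∈ M)).le ⟨w, hw, rfl⟩
    · exact LinearMap.range_eq_bot.1 hb
  intro W hW
  rcases hUirr' (W.comap (f : U →ₗ[K] V)) (fun g _ => by
      rintro _ ⟨u, hu, rfl⟩
      show (f : U →ₗ[K] V) ⟨ρ (g : G) u, hUi g g.2 u u.2⟩ ∈ W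
      rw [f.2 _ g.2]
      exact hW g g.2 ⟨_, hu, rfl⟩) with h | h
  · refine Or.inl (eq_bot_iff.2 fun w hw => ?_)
    obtain ⟨u, rfl⟩ : w ∈ S := hStop ▸ Submodule.mem_top
    have : u ∈ W.comap (f : U →ₗ[K] V) := hw
    rw [h, Submodule.mem_bot] at this
    simp [this]
  · refine Or.inr (eq_top_iff.2 fun w _ => ?_)
    obtain ⟨u, rfl⟩ : w ∈ S := hStop ▸ Submodule.mem_top
    exact h.ge (Submodule.mem_top (x := u))

/-- The irreducible faithful case with minimal `R`. -/
theorem irreducible_step {n : ℕ} (hn : 1 ≤ n) (IH : ∀ m < n, HHStatement.{u, v, w} p q K m)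
    (hpq : p ≠ q) (hfaith : Function.Injective ρ) (x : G) [R.Normal] (hR : IsPGroup q R)
    (hgen : R ⊔ Subgroup.zpowers x = ⊤) (hx : x ^ p ^ n = 1)
    (hirr : ∀ W : Submodule K V, (∀ g : G, ∀ w ∈ W, ρ g w ∈ W) → W = ⊥ ∨ W = ⊤)
    (hy : ∃ g ∈ R, g * x ^ p ^ (n - 1) ≠ x ^ p ^ (n - 1) * g)
    (hmin : ∀ D < R, x ∈ Subgroup.normalizer (D : Set G) →
      ∀ g ∈ D, g * x ^ p ^ (n - 1) = x ^ p ^ (n - 1) * g)
    (s : ℕ) (hs : (ρ x - 1) ^ s = 0) : HBound p q n s R := by
  classical
  have hp : p.Prime := Fact.out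
  have hq : q.Prime := Fact.out
  set y := x ^ p ^ (n - 1) with hydef
  have hyx : x * y = y * x := (Commute.self_pow x _).eq
  have hyp : y ^ p = 1 := by
    rw [hydef, ← pow_mul, ← pow_succ, Nat.sub_add_cancel hn, hx]
  obtain ⟨g₀, hg₀R, hg₀⟩ := hy
  have hg₀1 : g₀ ≠ 1 := fun h => hg₀ (by rw [h, one_mul, mul_one])
  haveI : Nontrivial V := by
    by_contra h
    haveI := not_nontrivial_iff_subsingleton.1 h
    exact hg₀1 (hfaith (LinearMap.ext fun v => Subsingleton.elim _ _))
  -- a subgroup containing all commutators is everything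
  have hL : ∀ D ≤ R, x ∈ Subgroup.normalizer (D : Set G) →
      (∀ g ∈ R, g * y * g⁻¹ * y⁻¹ ∈ D) → D = R := by
    intro D hDR hxD hcD
    by_contra hne
    refine hg₀ ?_
    have hlt := lt_of_le_of_ne hDR hne
    set d := g₀ * y * g₀⁻¹ * y⁻¹ with hd
    have hdR : d ∈ R := hDR (hcD g₀ hg₀R)
    have hdy : Commute d y := hmin D hlt hxD d (hcD g₀ hg₀R)
    have h1 : g₀ * y * g₀⁻¹ = d * y := by rw [hd]; group
    have h2 : d ^ p = 1 := by
      have h3 : (d * y) ^ p = 1 := by
        rw [← h1, conj_pow, hyp, mul_one, mul_inv_cancel]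
      rwa [hdy.mul_pow, hyp, mul_one] at h3
    have h3 : d = 1 := by
      obtain ⟨k, hk⟩ := hR ⟨d, hdR⟩
      have hk' : d ^ q ^ k = 1 := congrArg Subtype.val hk
      have hc : p.Coprime (q ^ k) := ((Nat.coprime_primes hp hq).2 hpq).pow_right k
      have hg := pow_gcd_eq_one.2 ⟨h2, hk'⟩
      rwa [hc.gcd_eq_one, pow_one] at hg
    rw [h3, one_mul] at h1
    exact mul_inv_eq_iff_eq_mul.1 h1
  -- the derived subgroup
  haveI : Nontrivial R := ⟨⟨⟨g₀, hg₀R⟩, 1, fun h => hg₀1 (congrArg Subtype.val h)⟩⟩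
  haveI : Group.IsNilpotent R := hR.isNilpotent
  have hRlt : ⁅R, R⁆ < R := by
    refine lt_of_le_of_ne (Subgroup.commutator_le_left R R) fun he => ?_
    have h1 := Group.IsSolvable.commutator_lt_top_of_nontrivial R
    refine h1.ne ?_
    rw [← Subgroup.map_injective (Subgroup.subtype_injective R) |>.eq_iff,
      Subgroup.map_subtype_commutator, ← MonoidHom.range_eq_map, Subgroup.range_subtype, he]
  have hnormR : x ∈ Subgroup.normalizer (R : Set G) := by
    rw [Subgroup.normalizer_eq_top]; exact Subgroup.mem_top x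
  have hxR' : x ∈ Subgroup.normalizer ((⁅R, R⁆ : Subgroup G) : Set G) := by
    rw [Subgroup.normalizer_eq_top]; exact Subgroup.mem_top x
  -- the fixed points of `y` are central
  let C : Subgroup G := R ⊓ Subgroup.centralizer {y}
  have hC' : ⁅R, R⁆ ≤ C := fun g hg => ⟨(Subgroup.commutator_le_left R R) hg,
    Subgroup.mem_centralizer_singleton_iff.2 (hmin _ hRlt hxR' g hg)⟩
  have hCnorm : ∀ g ∈ R, ∀ c ∈ C, g * c * g⁻¹ ∈ C := by
    intro g hg c hc
    rw [show g * c * g⁻¹ = ⁅g, c⁆ * c by rw [commutatorElement_def]; group]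
    exact mul_mem (hC' (Subgroup.commutator_mem_commutator hg hc.1)) hc
  have hxy : ∀ c, c * y = y * c → (x * c * x⁻¹) * y = y * (x * c * x⁻¹) := by
    intro c hc
    have e1 : x⁻¹ * y = y * x⁻¹ := (Commute.inv_left (hyx : Commute x y)).eq
    rw [mul_assoc, e1, ← mul_assoc, mul_assoc x c y, hc, ← mul_assoc x y c, hyx]
    group
  have hCx : x ∈ Subgroup.normalizer (C : Set G) := by
    refine Subgroup.mem_normalizer_iff_conj_image_eq.2
      (Set.eq_of_subset_of_ncard_le ?_ ?_ (Set.toFinite _))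
    · rintro _ ⟨c, hc, rfl⟩
      refine ⟨(inferInstance : R.Normal).conj_mem c hc.1 x, Subgroup.mem_centralizer_singleton_iff.2
        (hxy c (Subgroup.mem_centralizer_singleton_iff.1 hc.2))⟩
    · exact le_of_eq (Set.ncard_image_of_injective _ (MulEquiv.injective _)).symm
  let D : Subgroup G := R ⊓ Subgroup.centralizer (C : Set G)
  have hD : D = R := by
    refine hL D inf_le_left ?_ fun g hg => ⟨?_, Subgroup.mem_centralizer_iff.2 fun c hc => ?_⟩
    · refine Subgroup.mem_normalizer_iff.2 fun d => ?_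
      have hR' := Subgroup.mem_normalizer_iff.1 hnormR d
      constructor
      · intro hd
        refine ⟨hR'.1 hd.1, Subgroup.mem_centralizer_iff.2 fun c hc => ?_⟩
        have h1 : x⁻¹ * c * x ∈ C := by
          refine (Subgroup.mem_normalizer_iff.1 hCx (x⁻¹ * c * x)).2 ?_
          simpa [mul_assoc] using hc
        have h2 := Subgroup.mem_centralizer_iff.1 hd.2 _ h1
        calc c * (x * d * x⁻¹) = x * ((x⁻¹ * c * x) * d) * x⁻¹ := by group
          _ = x * (d * (x⁻¹ * c * x)) * x⁻¹ := by rw [h2]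
          _ = x * d * x⁻¹ * c := by group
      · intro hd
        refine ⟨hR'.2 hd.1, Subgroup.mem_centralizer_iff.2 fun c hc => ?_⟩
        have h2 := Subgroup.mem_centralizer_iff.1 hd.2 _
          ((Subgroup.mem_normalizer_iff.1 hCx c).1 hc)
        calc c * d = x⁻¹ * ((x * c * x⁻¹) * (x * d * x⁻¹)) * x := by group
          _ = x⁻¹ * ((x * d * x⁻¹) * (x * c * x⁻¹)) * x := by rw [h2]
          _ = d * c := by group
    · rw [show g * y * g⁻¹ * y⁻¹ = g * (y * g⁻¹ * y⁻¹) by group]
      exact mul_mem hg ((inferInstance : R.Normal).conj_mem _ (inv_mem hg) y)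
    · have h1 := hCnorm g⁻¹ (inv_mem hg) c hc
      rw [inv_inv] at h1
      have h2 : (g⁻¹ * c * g) * y = y * (g⁻¹ * c * g) :=
        Subgroup.mem_centralizer_singleton_iff.1 h1.2
      have h3 : c * (g * y * g⁻¹) = (g * y * g⁻¹) * c := by
        calc c * (g * y * g⁻¹) = g * ((g⁻¹ * c * g) * y) * g⁻¹ := by group
          _ = g * (y * (g⁻¹ * c * g)) * g⁻¹ := by rw [h2]
          _ = (g * y * g⁻¹) * c := by group
      have h4 : c * y⁻¹ = y⁻¹ * c :=
        (Commute.inv_right (Subgroup.mem_centralizer_singleton_iff.1 hc.2 : Commute c y)).eq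
      rw [← mul_assoc, h3, mul_assoc, h4, ← mul_assoc]
  have hCZ : ∀ c ∈ C, ∀ g ∈ R, g * c = c * g := fun c hc g hg =>
    ((Subgroup.mem_centralizer_iff.1 (hD.ge hg).2) c hc).symm
  -- the centre of `R`
  let Z : Subgroup G := R ⊓ Subgroup.centralizer (R : Set G)
  haveI : Z.Normal := Subgroup.normal_inf_normal R _
  have hZc : ∀ z ∈ Z, ∀ g ∈ R, g * z = z * g := fun z hz g hg =>
    Subgroup.mem_centralizer_iff.1 hz.2 g hg
  let F : ↥Z → Module.End K V := fun z => ρ (z : G)
  have hFc : ∀ a b, Commute (F a) (F b) := fun a b => by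
    show ρ (a : G) * ρ (b : G) = ρ (b : G) * ρ (a : G)
    rw [← map_mul, ← map_mul, hZc b b.2 a a.2.1]
  obtain ⟨l, hl⟩ := exists_weight F hFc
  by_cases hsc : weight F l = ⊤
  · -- the scalar case
    have hscal : ∀ z ∈ R, (∀ g ∈ R, g * z = z * g) → ∃ c : K, ρ z = c • 1 := by
      intro z hz hzc
      refine ⟨l ⟨z, hz, Subgroup.mem_centralizer_iff.2 hzc⟩, LinearMap.ext fun v => ?_⟩
      exact mem_weight.1 (hsc.ge (Submodule.mem_top (x := v)))
        ⟨z, hz, Subgroup.mem_centralizer_iff.2 hzc⟩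
    have hcl : ∀ g ∈ R, ∀ h ∈ R, ∀ k ∈ R,
        k * (g * h * g⁻¹ * h⁻¹) = (g * h * g⁻¹ * h⁻¹) * k := fun g hg h hh k hk => by
      have := hCZ _ (hC' (Subgroup.commutator_mem_commutator hg hh)) k hk
      rwa [commutatorElement_def] at this
    have hcentral : ∀ z ∈ Z, z ∈ Subgroup.center G := fun z hz => Subgroup.mem_center_iff.2 fun g => by
      obtain ⟨c, hc⟩ := hscal z hz.1 (hZc z hz)
      exact hfaith (by rw [map_mul, map_mul, hc, smul_mul_assoc, mul_smul_comm, one_mul, mul_one])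
    have hxo : orderOf x = p ^ n := by
      rw [← Nat.sub_add_cancel hn]
      refine orderOf_eq_prime_pow (fun h => hg₀ ?_) (by rw [Nat.sub_add_cancel hn, hx])
      rw [hydef, h, one_mul, mul_one]
    have hnab : ¬ IsMulCommutative R := fun hc => by
      refine hg₀ ?_
      exact Subgroup.mem_center_iff.1 (hcentral g₀ ⟨hg₀R, Subgroup.mem_centralizer_iff.2 fun h hh =>
        congrArg Subtype.val (hc.is_comm.comm ⟨h, hh⟩ ⟨g₀, hg₀R⟩)⟩) y |>.symm
    have hirrR := irreducible_of_scalar ρ R hfaith x hgen hirr hscal hcl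
    have hxp : IsPGroup p (Subgroup.zpowers x) :=
      IsPGroup.of_card (n := n) (by rw [Nat.card_zpowers, hxo])
    have hcent : ∀ z ∈ Subgroup.zpowers x, z ≠ 1 →
        Subgroup.centralizer ({z} : Set G) = Subgroup.zpowers x ⊔ Subgroup.center G := by
      intro z hz hz1
      refine le_antisymm (fun g hg => ?_) (sup_le ?_ fun g hg => ?_)
      · obtain ⟨r, hr, k, hk, rfl⟩ :=
          Subgroup.mem_sup_of_normal_left.1 (hgen ▸ Subgroup.mem_top g : g ∈ R ⊔ Subgroup.zpowers x)
        refine mul_mem (Subgroup.mem_sup_right ?_) (Subgroup.mem_sup_left hk)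
        have hgz : Commute (r * k) z := Subgroup.mem_centralizer_singleton_iff.1 hg
        have hkz : Commute k z := by
          obtain ⟨i, rfl⟩ := Subgroup.mem_zpowers_iff.1 hk
          obtain ⟨j, rfl⟩ := Subgroup.mem_zpowers_iff.1 hz
          exact Commute.zpow_zpow_self x i j
        have hrz : Commute r z := by
          simpa using hgz.mul_left hkz.inv_left
        -- `y` is a power of `z`
        have hyz : y ∈ Subgroup.zpowers z := by
          obtain ⟨i, rfl⟩ := mem_powers_iff_mem_zpowers.2 hz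
          have hxe : orderOf x ∣ p ^ n := hxo.dvd
          obtain ⟨a, ha, hag⟩ := (Nat.dvd_prime_pow hp).1 (Nat.gcd_dvd_right i (p ^ n))
          have ha' : a ≤ n - 1 := by
            by_contra hlt
            have : a = n := by omega
            rw [this] at hag
            exact hz1 (orderOf_dvd_iff_pow_eq_one.1 (hxo ▸ hag ▸ Nat.gcd_dvd_left i (p ^ n)))
          have hb : x ^ ((i.gcd (p ^ n) : ℕ) : ℤ) ∈ Subgroup.zpowers (x ^ i) := by
            rw [Nat.gcd_eq_gcd_ab, zpow_add, zpow_mul, zpow_mul, zpow_natCast, zpow_natCast, hx,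
              one_zpow, mul_one]
            exact Subgroup.zpow_mem_zpowers _ _
          rw [zpow_natCast, hag] at hb
          have h5 := pow_mem hb (p ^ (n - 1 - a))
          rwa [← pow_mul, ← pow_add, Nat.add_sub_cancel' ha'] at h5
        obtain ⟨j, hj⟩ := Subgroup.mem_zpowers_iff.1 hyz
        have hrC : r ∈ C := ⟨hr, Subgroup.mem_centralizer_singleton_iff.2 (hj ▸ (hrz.zpow_right j).eq)⟩
        exact hcentral r ⟨hr, Subgroup.mem_centralizer_iff.2 (hCZ r hrC)⟩
      · rw [Subgroup.zpowers_le, Subgroup.mem_centralizer_singleton_iff]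
        obtain ⟨j, rfl⟩ := Subgroup.mem_zpowers_iff.1 hz
        exact ((Commute.refl x).zpow_right j).eq
      · exact Subgroup.mem_centralizer_singleton_iff.2 (Subgroup.mem_center_iff.1 hg z).symm
    have hex : ∃ k, (ρ x - 1) ^ k = 0 := ⟨s, hs⟩
    obtain ⟨h1, h2, h3⟩ := Cfsg.Agent.S4282.result p q hpq R hR x hxp hgen hcent ρ hfaith hirrR
      (Nat.find hex) (Nat.find_spec hex) fun k hk => Nat.find_min hex hk
    rw [Nat.card_zpowers, hxo] at h1 h2 h3
    have hle : Nat.find hex ≤ s := Nat.find_min' hex hs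
    by_cases he : Nat.find hex = p ^ n - 1
    · obtain ⟨⟨b, hb⟩, -⟩ := h3 he
      refine Or.inr ⟨n, b, hn, le_rfl, ?_, hb, by simp; omega, ?_⟩
      · by_contra hb0
        rw [show b = 0 by omega, pow_zero] at hb
        have h4 : (ρ x - 1) ^ 1 = 0 := by rw [← hb, ← he]; exact Nat.find_spec hex
        rw [pow_one, sub_eq_zero, ← map_one ρ] at h4
        have := hfaith h4
        rw [hydef, this, one_pow, mul_one, one_mul] at hg₀
        exact hg₀ rfl
      · by_contra hc
        push Not at hc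
        exact hnab ⟨⟨fun a b => Subtype.ext (hc a a.2 b b.2)⟩⟩
    · exact Or.inl (by omega)
  · -- several weights
    let tw : G → ↥Z → K := fun g z =>
      l ⟨g⁻¹ * z * g, by simpa using (inferInstance : Z.Normal).conj_mem _ z.2 g⁻¹⟩
    have htw1 : tw 1 = l := by funext z; simp [tw]
    have htwd : ∀ g h, tw g = tw h → tw (g⁻¹ * h) = l := by
      intro g h e
      funext z
      have := congrFun e ⟨g * z * g⁻¹, (inferInstance : Z.Normal).conj_mem _ z.2 g⟩
      simp only [tw] at this ⊢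
      refine Eq.trans (congrArg l (Subtype.ext ?_)) (this.symm.trans (congrArg l (Subtype.ext ?_)))
      · show (g⁻¹ * h)⁻¹ * ↑z * (g⁻¹ * h) = h⁻¹ * (g * ↑z * g⁻¹) * h
        group
      · show g⁻¹ * (g * ↑z * g⁻¹) * g = ↑z
        group
    have htwW : ∀ (g : G), ∀ w ∈ weight F l, ρ g w ∈ weight F (tw g) := by
      intro g w hw
      refine mem_weight.2 fun z => ?_
      have h1 := mem_weight.1 hw
        ⟨g⁻¹ * z * g, by simpa using (inferInstance : Z.Normal).conj_mem _ z.2 g⁻¹⟩
      show ρ (z : G) (ρ g w) = tw g z • ρ g w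
      rw [← map_smul]
      show _ = ρ g (l _ • w)
      rw [← h1]
      show _ = ρ g (ρ (g⁻¹ * ↑z * g) w)
      rw [← rep_mul, ← rep_mul]
      congr 2
      group
    have hex : ∃ k, 0 < k ∧ tw (x ^ k) = l :=
      ⟨p ^ n, pow_pos hp.pos n, by rw [hx, htw1]⟩
    set k := Nat.find hex with hk
    obtain ⟨hk0, hkl⟩ : 0 < k ∧ tw (x ^ k) = l := Nat.find_spec hex
    -- the stabiliser of the weight
    have hfix : ∀ g h, tw g = l → tw h = l → tw (g * h) = l := by
      intro g h eg eh
      funext z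
      have := congrFun eg z
      have h2 := congrFun eh
        ⟨g⁻¹ * z * g, by simpa using (inferInstance : Z.Normal).conj_mem _ z.2 g⁻¹⟩
      simp only [tw] at this h2 ⊢
      rw [← this, ← h2]
      refine congrArg l (Subtype.ext ?_)
      show (g * h)⁻¹ * ↑z * (g * h) = h⁻¹ * (g⁻¹ * ↑z * g) * h
      group
    have hkmul : ∀ j, tw (x ^ (k * j)) = l := by
      intro j
      induction j with
      | zero => simp [htw1]
      | succ j ih => rw [mul_add, mul_one, pow_add]; exact hfix _ _ ih hkl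
    have hinvfix : ∀ g, tw g = l → tw g⁻¹ = l := fun g eg => by
      simpa using htwd g 1 (eg.trans htw1.symm)
    have hkdvd : k ∣ p ^ n := by
      by_contra hnd
      have hr : p ^ n % k ≠ 0 := fun h => hnd (Nat.dvd_of_mod_eq_zero h)
      have h1 : tw (x ^ (p ^ n % k)) = l := by
        have hsplit : x ^ (p ^ n % k) = (x ^ (k * (p ^ n / k)))⁻¹ := by
          rw [eq_inv_iff_mul_eq_one, ← pow_add, Nat.mod_add_div, hx]
        rw [hsplit]
        exact hinvfix _ (hkmul _)
      exact absurd (Nat.find_min' hex ⟨Nat.pos_of_ne_zero hr, h1⟩) (not_le.2 (Nat.mod_lt _ hk0))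
    obtain ⟨a, han, hka⟩ := (Nat.dvd_prime_pow hp).1 hkdvd
    have hWR : ∀ g ∈ R, ∀ w ∈ weight F l, ρ g w ∈ weight F l := by
      intro g hg w hw
      refine mem_weight.2 fun z => ?_
      show ρ (z : G) (ρ g w) = _
      rw [← rep_mul, ← hZc z z.2 g hg, rep_mul, show ρ (z : G) w = l z • w from mem_weight.1 hw z,
        map_smul]
    let M : Subgroup G :=
      { carrier := {g | tw g = l ∧ ∀ w ∈ weight F l, ρ g w ∈ weight F l}
        one_mem' := ⟨htw1, fun w hw => by simpa using hw⟩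
        mul_mem' := fun {g h} hg hh => ⟨hfix g h hg.1 hh.1, fun w hw => by
          rw [rep_mul]; exact hg.2 _ (hh.2 w hw)⟩
        inv_mem' := fun {g} hg => ⟨hinvfix g hg.1, fun w hw => by
          have := htwW g⁻¹ w hw
          rwa [hinvfix g hg.1] at this⟩ }
    have hMx : x ^ k ∈ M := ⟨hkl, fun w hw => by
      have := htwW (x ^ k) w hw
      rwa [hkl] at this⟩
    have hMR : R ≤ M := fun g hg => ⟨by
      funext z
      refine congrArg l (Subtype.ext ?_)
      show g⁻¹ * ↑z * g = ↑z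
      rw [mul_assoc, ← hZc z z.2 g hg, inv_mul_cancel_left], hWR g hg⟩
    have ha0 : 1 ≤ a := by
      by_contra ha0
      rw [show a = 0 by omega, pow_zero] at hka
      have hMtop : M = ⊤ := by
        rw [eq_top_iff, ← hgen, sup_le_iff, Subgroup.zpowers_le]
        refine ⟨hMR, ?_⟩
        simpa [hka] using hMx
      exact hsc ((hirr _ fun g w hw => ((hMtop ▸ Subgroup.mem_top g : g ∈ M)).2 w hw).resolve_left
        hl)
    -- one block kills nothing
    have hblock : ∀ w ∈ weight F l, ((ρ x - 1) ^ (k - 1)) w = 0 → w = 0 := by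
      intro w hw h0
      by_contra hw0
      rw [hka] at h0
      haveI : CharP (Module.End K V) p := charP_of_injective_algebraMap
        (algebraMap K (Module.End K V)).injective p
      rw [← sum_pow_mul_pow (R := Module.End K V) p a (Commute.one_right (ρ x)),
        LinearMap.sum_apply] at h0
      have hli := linearIndependent_weight F (fun i : Fin k => ρ (x ^ (i : ℕ)) w)
        (fun i : Fin k => tw (x ^ (i : ℕ))) ?_ (fun i => htwW _ w hw)
        (fun i hi => hw0 (by rw [← rep_inv_self ρ (x ^ (i : ℕ)) w, hi, map_zero]))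
      · have hz : ∑ i : Fin k, (1 : K) • ρ (x ^ (i : ℕ)) w = 0 := by
          rw [Fin.sum_univ_eq_sum_range (fun i => (1 : K) • ρ (x ^ i) w), hka, ← h0]
          simp [map_pow]
        exact one_ne_zero (Fintype.linearIndependent_iff.1 hli _ hz ⟨0, hk0⟩)
      · have key : ∀ i j : Fin k, (i : ℕ) < j → tw (x ^ (i : ℕ)) ≠ tw (x ^ (j : ℕ)) := by
          intro i j hij e
          have h1 := htwd _ _ e
          rw [← Nat.add_sub_cancel' hij.le, pow_add, inv_mul_cancel_left] at h1
          have := Nat.find_min' hex (m := (j : ℕ) - i) ⟨by omega, h1⟩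
          rw [← hk] at this
          have := j.2
          omega
        intro i j e
        rcases lt_trichotomy (i : ℕ) (j : ℕ) with h | h | h
        · exact absurd e (key i j h)
        · exact Fin.ext h
        · exact absurd e.symm (key j i h)
    have hkill : ∀ w ∈ weight F l, ((ρ (x ^ k) - 1) ^ (s / k)) w = 0 := by
      intro w hw
      refine hblock _ ?_ ?_
      · clear hs
        induction s / k with
        | zero => simpa using hw
        | succ j ih =>
          rw [pow_succ', Module.End.mul_apply, LinearMap.sub_apply, Module.End.one_apply]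
          exact sub_mem (hMx.2 _ ih) ih
      · rw [← Module.End.mul_apply, map_pow, hka]
        rw [show ρ x ^ p ^ a - 1 = (ρ x - 1) ^ p ^ a by
          haveI : CharP (Module.End K V) p := charP_of_injective_algebraMap
            (algebraMap K (Module.End K V)).injective p
          rw [sub_pow_char_pow_of_commute (n := a) (p := p) (Commute.one_right (ρ x)), one_pow]]
        rw [← pow_mul, ← pow_add]
        have hle : s ≤ p ^ a - 1 + p ^ a * (s / p ^ a) := by
          have := Nat.mod_add_div s (p ^ a)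
          have := Nat.mod_lt s (pow_pos hp.pos a)
          omega
        rw [pow_eq_zero_of_le hle hs, LinearMap.zero_apply]
    obtain ⟨w₀, hw₀, hw₀0⟩ := (weight F l).exists_mem_ne_zero_of_ne_bot hl
    rcases eq_or_lt_of_le han with rfl | hlt
    · refine Or.inl (not_lt.1 fun hlt' => hw₀0 ?_)
      have := hkill w₀ hw₀
      rwa [hka, Nat.div_eq_of_lt hlt', pow_zero] at this
    -- recursion
    have hyM : y = (x ^ k) ^ p ^ (n - a - 1) := by
      rw [hydef, hka, ← pow_mul, ← pow_add, show a + (n - a - 1) = n - 1 by omega]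
    let ρ' := subRep ρ M (weight F l) fun g hg w hw => hg.2 w hw
    have hmv : Moves ρ' (R.subgroupOf M) ((⟨x ^ k, hMx⟩ : M) ^ p ^ (n - a - 1)) := by
      by_contra hno
      have hfixw : ∀ g ∈ R, ∀ w ∈ weight F l, ρ (g * y * g⁻¹ * y⁻¹) w = w := by
        intro g hg w hw
        have h1 : ρ' ((⟨g, hMR hg⟩ : M) * (⟨x ^ k, hMx⟩ : M) ^ p ^ (n - a - 1) *
            (⟨g, hMR hg⟩ : M)⁻¹ * ((⟨x ^ k, hMx⟩ : M) ^ p ^ (n - a - 1))⁻¹) = 1 := by
          by_contra h
          exact hno ⟨⟨g, hMR hg⟩, Subgroup.mem_subgroupOf.2 hg, h⟩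
        have h2 := congrArg (fun f : Module.End K ↥(weight F l) => ((f ⟨w, hw⟩ : ↥(weight F l)) : V)) h1
        simpa [subRep_apply, ρ', hyM] using h2
      let Fx : Submodule K V :=
        { carrier := {v | ∀ g ∈ R, ρ (g * y * g⁻¹ * y⁻¹) v = v}
          add_mem' := fun {v w} hv hw g hg => by rw [map_add, hv g hg, hw g hg]
          zero_mem' := fun g _ => by simp
          smul_mem' := fun t v hv g hg => by rw [map_smul, hv g hg] }
      let N : Subgroup G :=
        { carrier := {g | Fx.map (ρ g) = Fx}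
          one_mem' := by simp [Submodule.map_id, Module.End.one_eq_id]
          mul_mem' := fun {a b} ha hb => by
            simp only [Set.mem_setOf_eq] at *
            rw [map_mul, Module.End.mul_eq_comp, Submodule.map_comp, hb, ha]
          inv_mem' := fun {a} ha => by
            simp only [Set.mem_setOf_eq] at *
            conv_lhs => rw [← ha]
            rw [← Submodule.map_comp, ← Module.End.mul_eq_comp, ← map_mul, inv_mul_cancel, map_one,
              Module.End.one_eq_id, Submodule.map_id] }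
      have hle : ∀ g, Fx.map (ρ g) ≤ Fx → g ∈ N := fun g hg => by
        refine Submodule.eq_of_le_of_finrank_le hg (le_of_eq ?_)
        exact (LinearEquiv.finrank_eq (Submodule.equivMapOfInjective (ρ g)
          (fun v v' h => by rw [← rep_inv_self ρ g v, h, rep_inv_self]) Fx))
      have hN : N = ⊤ := by
        rw [eq_top_iff, ← hgen, sup_le_iff, Subgroup.zpowers_le]
        refine ⟨fun r hr => hle r ?_, hle x ?_⟩
        · rintro _ ⟨v, hv, rfl⟩ g hg
          have hc' : ρ ((r⁻¹ * y * r * y⁻¹)⁻¹) v = v := by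
            have := hv r⁻¹ (inv_mem hr)
            rw [inv_inv] at this
            conv_lhs => rw [← this]
            rw [rep_inv_self]
          have e : g * y * g⁻¹ * y⁻¹ * r =
              r * ((r⁻¹ * g) * y * (r⁻¹ * g)⁻¹ * y⁻¹) * (r⁻¹ * y * r * y⁻¹)⁻¹ := by group
          rw [← rep_mul, e, rep_mul, hc', rep_mul, hv _ (mul_mem (inv_mem hr) hg)]
        · rintro _ ⟨v, hv, rfl⟩ g hg
          have e : g * y * g⁻¹ * y⁻¹ * x =
              x * ((x⁻¹ * g * x) * y * (x⁻¹ * g * x)⁻¹ * y⁻¹) := by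
            have e1 : Commute x y := hyx
            have e2 := e1.inv_right.eq
            calc g * y * g⁻¹ * y⁻¹ * x = g * y * g⁻¹ * (y⁻¹ * x) := by group
              _ = g * y * g⁻¹ * (x * y⁻¹) := by rw [e2]
              _ = x * ((x⁻¹ * g) * y * g⁻¹ * x * y⁻¹) := by group
              _ = x * ((x⁻¹ * g) * (x * y * x⁻¹) * g⁻¹ * x * y⁻¹) := by
                rw [hyx, mul_inv_cancel_right]
              _ = _ := by group
          rw [← rep_mul, e, rep_mul, hv _ (by simpa using
            (inferInstance : R.Normal).conj_mem _ hg x⁻¹)]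
      have hFtop : Fx = ⊤ := by
        refine (hirr Fx fun g w hw => ?_).resolve_left fun hb => hw₀0 ?_
        · exact (show Fx.map (ρ g) = Fx from (hN ▸ Subgroup.mem_top g : g ∈ N)).le ⟨w, hw, rfl⟩
        · have : w₀ ∈ Fx := fun g hg => hfixw g hg w₀ hw₀
          rwa [hb, Submodule.mem_bot] at this
      have h1 : g₀ * y * g₀⁻¹ * y⁻¹ = 1 := hfaith (by
        rw [map_one]
        exact LinearMap.ext fun v => (hFtop.ge (Submodule.mem_top (x := v)) : v ∈ Fx) g₀ hg₀R)
      exact hg₀ (mul_inv_eq_iff_eq_mul.1 (mul_inv_eq_one.1 h1))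
    have hres := IH (n - a) (by omega) ↥M ↥(weight F l) ρ' (R.subgroupOf M) ⟨x ^ k, hMx⟩
      hR.comap_subtype (by rw [Subgroup.normalizer_eq_top]; exact Subgroup.mem_top _)
      (Subtype.ext (by
        show (x ^ k) ^ p ^ (n - a) = 1
        rw [hka, ← pow_mul, ← pow_add, Nat.add_sub_cancel' han, hx]))
      hmv (s / k) (LinearMap.ext fun w => Subtype.ext (by
        rw [subRep_sub_one_pow]; simpa using hkill w w.2))
    have hks : k * (s / k) ≤ s := Nat.mul_div_le s k
    rcases HBound.of_map M.subtype M.subtype_injective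
        (Subgroup.map_comap_le (f := M.subtype) (H := R)) hres with h | ⟨n₀, m, h1, h2, h3, h4, h5, h6⟩
    · refine Or.inl ((Nat.mul_le_mul_left k h).trans' ?_ |>.trans hks)
      rw [hka, ← pow_add, Nat.add_sub_cancel' han]
    · refine Or.inr ⟨n₀, m, h1, by omega, h3, h4, ?_, h6⟩
      refine le_trans (le_of_eq ?_) ((Nat.mul_le_mul_left k h5).trans hks)
      rw [hka, ← mul_assoc, ← pow_add]
      congr 2
      omega

end Final

/-- Reduction to irreducible modules. -/
theorem minimal_step {n : ℕ} (hn : 1 ≤ n) (IH : ∀ m < n, HHStatement.{u, v, w} p q K m)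
    (hpq : p ≠ q) {G : Type u} [Group G] [Finite G] (R : Subgroup G) [R.Normal] (x : G)
    (hR : IsPGroup q R) (hgen : R ⊔ Subgroup.zpowers x = ⊤) (hx : x ^ p ^ n = 1) :
    ∀ (d : ℕ) (V : Type v) [AddCommGroup V] [Module K V] [FiniteDimensional K V]
      (ρ : Representation K G V), Module.finrank K V = d → Moves ρ R (x ^ p ^ (n - 1)) →
      (∀ D < R, x ∈ Subgroup.normalizer (D : Set G) → ¬ Moves ρ D (x ^ p ^ (n - 1))) →
      ∀ s, (ρ x - 1) ^ s = 0 → HBound p q n s R := by
  intro d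
  induction d using Nat.strong_induction_on with
  | _ d ihd =>
  intro V _ _ _ ρ hd hmv hmin s hs
  have hp : p.Prime := Fact.out
  have hq : q.Prime := Fact.out
  by_cases hirr : ∀ W : Submodule K V, (∀ g : G, ∀ w ∈ W, ρ g w ∈ W) → W = ⊥ ∨ W = ⊤
  · -- pass to the image
    let f : G →* (Module.End K V)ˣ := ρ.toHomUnits
    let π : G →* G ⧸ f.ker := QuotientGroup.mk' f.ker
    let σ : Representation K (G ⧸ f.ker) V :=
      (Units.coeHom (Module.End K V)).comp (QuotientGroup.kerLift f)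
    have hσ : ∀ g, σ (π g) = ρ g := fun g => rfl
    have hσi : Function.Injective σ :=
      Units.val_injective.comp (QuotientGroup.kerLift_injective f)
    have hsurj : Function.Surjective π := QuotientGroup.mk'_surjective f.ker
    let R' := R.map π
    haveI : R'.Normal := Subgroup.Normal.map inferInstance _ hsurj
    have hgen' : R' ⊔ Subgroup.zpowers (π x) = ⊤ := by
      rw [← MonoidHom.map_zpowers, ← Subgroup.map_sup, hgen, Subgroup.map_top_of_surjective _ hsurj]
    refine HBound.of_hom π le_rfl (irreducible_step σ R' hn IH hpq hσi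
      (π x) (hR.map _) hgen' (by rw [← map_pow, hx, map_one]) ?_ ?_ ?_ s
      (by rw [hσ, hs]))
    · intro W hW
      exact hirr W fun g w hw => hW (π g) w hw
    · obtain ⟨g, hg, hne⟩ := hmv
      refine ⟨π g, ⟨g, hg, rfl⟩, fun h => hne ?_⟩
      rw [← hσ]
      simp only [map_mul π, map_inv π, map_pow π] at h ⊢
      rw [h, mul_inv_cancel_right, mul_inv_cancel, map_one]
    · intro D hD hxD g hg
      let D₀ : Subgroup G := R ⊓ D.comap π
      obtain ⟨g', hg', rfl⟩ := hD.le hg
      have hlt : D₀ < R := lt_of_le_of_ne inf_le_left fun he => hD.not_ge fun r hr => by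
        obtain ⟨r', hr', rfl⟩ := hr
        exact (he.ge hr').2
      have hxD₀ : x ∈ Subgroup.normalizer (D₀ : Set G) := by
        refine Subgroup.mem_normalizer_iff.2 fun h => ?_
        have hRn : h ∈ R ↔ x * h * x⁻¹ ∈ R := by
          constructor
          · exact fun hh => (inferInstance : R.Normal).conj_mem h hh x
          · intro hh
            simpa [mul_assoc] using (inferInstance : R.Normal).conj_mem _ hh x⁻¹
        have hDn := Subgroup.mem_normalizer_iff.1 hxD (π h)
        simp only [D₀, Subgroup.mem_inf, Subgroup.mem_comap, map_mul, map_inv]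
        exact and_congr hRn hDn
      by_contra hne
      refine hmin D₀ hlt hxD₀ ⟨g', ⟨hg', hg⟩, fun h => hne ?_⟩
      rw [← hσ, ← map_one σ] at h
      have h2 := hσi h
      simp only [map_mul, map_inv, map_pow] at h2 ⊢
      exact mul_inv_eq_iff_eq_mul.1 (mul_inv_eq_one.1 h2)
  · push Not at hirr
    obtain ⟨W, hWi, hW0, hW1⟩ := hirr
    have hWt : ∀ g ∈ (⊤ : Subgroup G), ∀ w ∈ W, ρ g w ∈ W := fun g _ w hw => hWi g w hw
    let ρ₁ : Representation K G ↥W :=
      (subRep ρ ⊤ W hWt).comp Subgroup.topEquiv.symm.toMonoidHom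
    by_cases hm1 : Moves ρ₁ R (x ^ p ^ (n - 1))
    · refine ihd (Module.finrank K W) (hd ▸ Submodule.finrank_lt hW1) ↥W ρ₁ rfl hm1
        (fun D hD hxD hmD => hmin D hD hxD ?_) s (LinearMap.ext fun w => Subtype.ext ?_)
      · obtain ⟨g, hg, hne⟩ := hmD
        exact ⟨g, hg, fun h => hne (LinearMap.ext fun w => Subtype.ext (LinearMap.congr_fun h _))⟩
      · exact (subRep_sub_one_pow ρ ⊤ W hWt (Subgroup.topEquiv.symm x) s w).trans
          (LinearMap.congr_fun hs (w : V))
    by_cases hm2 : Moves (quotRep ρ W hWi) R (x ^ p ^ (n - 1))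
    · refine ihd (Module.finrank K (V ⧸ W)) (by
          have h1 := Submodule.finrank_quotient_add_finrank W
          have h2 : 0 < Module.finrank K W :=
            Nat.pos_of_ne_zero fun h => hW0 (Submodule.finrank_eq_zero.1 h)
          omega) (V ⧸ W)
        (quotRep ρ W hWi) rfl hm2 (fun D hD hxD hmD => hmin D hD hxD ?_) s
        (quotRep_sub_one_pow ρ W hWi x s hs)
      obtain ⟨g, hg, hne⟩ := hmD
      refine ⟨g, hg, fun h => hne (LinearMap.ext fun t => ?_)⟩
      obtain ⟨v, rfl⟩ := Submodule.Quotient.mk_surjective W t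
      rw [quotRep_apply, h]
      rfl
    exfalso
    obtain ⟨g, hg, hne⟩ := hmv
    set y := x ^ p ^ (n - 1)
    set c := g * y * g⁻¹ * y⁻¹ with hc
    have hcR : c ∈ R := by
      rw [hc, show g * y * g⁻¹ * y⁻¹ = g * (y * g⁻¹ * y⁻¹) by group]
      exact mul_mem hg ((inferInstance : R.Normal).conj_mem _ (inv_mem hg) y)
    obtain ⟨k, hk⟩ := hR ⟨c, hcR⟩
    refine hne (rep_eq_one_of_sq ρ hp hq hpq (k := k) (congrArg Subtype.val hk)
      (LinearMap.ext fun v => ?_))
    have h1 : ρ₁ c = 1 := by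
      by_contra h
      exact hm1 ⟨g, hg, h⟩
    have h2 : quotRep ρ W hWi c = 1 := by
      by_contra h
      exact hm2 ⟨g, hg, h⟩
    have hin : ρ c v - v ∈ W := (Submodule.Quotient.eq W).1 (by
      rw [← quotRep_apply ρ W hWi, h2]
      rfl)
    have h3 : ρ c (ρ c v - v) = ρ c v - v :=
      congrArg Subtype.val (LinearMap.congr_fun h1 ⟨_, hin⟩)
    simp only [Module.End.mul_apply, LinearMap.sub_apply, Module.End.one_apply,
      LinearMap.zero_apply]
    rw [h3, sub_self]

/-- Theorem B of Hall and Higman, over an algebraically closed field. -/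
theorem hallHigmanB (hpq : p ≠ q) : ∀ n, 1 ≤ n → HHStatement.{u, v, w} p q K n := by
  intro n
  induction n using Nat.strong_induction_on with
  | _ n IH =>
  intro hn G _ _ V _ _ _ ρ Q x hQ hxQ hx hmv s hs
  have IH' : ∀ m < n, HHStatement.{u, v, w} p q K m := by
    intro m hm
    rcases Nat.eq_zero_or_pos m with rfl | hm0
    · intro G _ _ V _ _ _ ρ Q x _ _ hx hmv
      obtain ⟨g, -, hne⟩ := hmv
      rw [pow_zero, pow_one] at hx
      simp [hx] at hne
    · exact IH m hm hm0
  set y := x ^ p ^ (n - 1) with hy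
  -- a minimal subgroup
  obtain ⟨R, ⟨hRQ, hxR, hmR⟩, hRmin⟩ := wellFounded_lt.has_min
    {R : Subgroup G | R ≤ Q ∧ x ∈ Subgroup.normalizer (R : Set G) ∧ Moves ρ R y}
    ⟨Q, le_rfl, hxQ, hmv⟩
  let G₀ := R ⊔ Subgroup.zpowers x
  let x₀ : G₀ := ⟨x, Subgroup.mem_sup_right (Subgroup.mem_zpowers x)⟩
  let R₀ := R.subgroupOf G₀
  haveI : R₀.Normal := by
    refine (Subgroup.normal_subgroupOf_iff_le_normalizer le_sup_left).2 (sup_le Subgroup.le_normalizer ?_)
    exact Subgroup.zpowers_le.2 hxR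
  have hmap : R₀.map G₀.subtype = R := Subgroup.map_subgroupOf_eq_of_le le_sup_left
  have hgen : R₀ ⊔ Subgroup.zpowers x₀ = ⊤ := by
    refine Subgroup.map_injective G₀.subtype_injective ?_
    rw [Subgroup.map_sup, hmap, MonoidHom.map_zpowers, ← MonoidHom.range_eq_map,
      Subgroup.range_subtype]
    rfl
  let ρ₀ : Representation K G₀ V := ρ.comp G₀.subtype
  have hres := minimal_step (q := q) hn IH' hpq R₀ x₀ (hQ.to_le hRQ).comap_subtype hgen
    (Subtype.ext (by simpa using hx)) _ V ρ₀ rfl ?_ ?_ s (by simpa [ρ₀, x₀] using hs)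
  · exact HBound.of_map G₀.subtype G₀.subtype_injective (hmap.le.trans hRQ) hres
  · obtain ⟨g, hg, hne⟩ := hmR
    exact ⟨⟨g, Subgroup.mem_sup_left hg⟩, hg, hne⟩
  · intro D hD hxD hmD
    refine hRmin (D.map G₀.subtype) ⟨?_, ?_, ?_⟩ ?_
    · exact ((Subgroup.map_mono hD.le).trans hmap.le).trans hRQ
    · exact Subgroup.le_normalizer_map (f := G₀.subtype) ⟨x₀, hxD, rfl⟩
    · obtain ⟨g, hg, hne⟩ := hmD
      exact ⟨g, ⟨g, hg, rfl⟩, hne⟩
    · exact ((Subgroup.map_lt_map_iff_of_injective G₀.subtype_injective).2 hD).trans_eq hmap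

end CfsgLib.HallHigman
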