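/-
The representation of `Y / O_p(Y)` on the Frattini quotient of `O_p(Y)`, extended to an algebraically
closed field, and moved invariant Sylow subgroups.
-/
import Cfsg.Agent.HallHigman.TheoremB
import Cfsg.Agent.PSoluble.CyclicNormal
import Cfsg.Agent.FGSA.PLengthSeries

set_option autoImplicit false
set_option linter.style.haveILetI false
set_option linter.unusedSectionVars false

namespace CfsgLib.HallHigman.FRep

open Subgroup CfsgLib.FGSA

universe u

variable (p : ℕ) [hp : Fact p.Prime] (Y : Type u) [Group Y] [Finite Y]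

/-- The `p`-core. -/
abbrev core : Subgroup Y := Cfsg.pCore p Y

instance core_normal : (core p Y).Normal := CfsgLib.Solvable.pCore_normal p

/-- The Frattini subgroup of the `p`-core. -/
abbrev phi : Subgroup Y := (frattini (core p Y)).map (core p Y).subtype

instance phi_normal : (phi p Y).Normal := ConjAct.normal_of_characteristic_of_normal

/-- The Frattini quotient of the `p`-core. -/
def quot : Subgroup (Y ⧸ phi p Y) := (core p Y).map (QuotientGroup.mk' (phi p Y))

instance quot_normal : (quot p Y).Normal :=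
  Subgroup.Normal.map inferInstance _ (QuotientGroup.mk'_surjective _)

theorem quot_comm {v w : Y ⧸ phi p Y} (hv : v ∈ quot p Y) (hw : w ∈ quot p Y) : v * w = w * v := by
  obtain ⟨hcom, -⟩ := CfsgLib.PGroupBasic.commutator_pow_le_frattini
    (CfsgLib.Solvable.isPGroup_pCore p : IsPGroup p (core p Y))
  obtain ⟨x, hx, rfl⟩ := hv
  obtain ⟨y, hy, rfl⟩ := hw
  rw [← mul_inv_eq_one, ← map_mul, ← map_mul, ← map_inv, ← map_mul]
  refine (QuotientGroup.eq_one_iff _).2
    ⟨(⟨x, hx⟩ : core p Y) * ⟨y, hy⟩ * (⟨y, hy⟩ * ⟨x, hx⟩)⁻¹, hcom ?_, rfl⟩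
  rw [_root_.commutator_def, mul_inv_rev, ← mul_assoc]
  exact commutator_mem_commutator (mem_top (⟨x, hx⟩ : core p Y)) (mem_top (⟨y, hy⟩ : core p Y))

instance quot_mulComm : IsMulCommutative (quot p Y) :=
  ⟨⟨fun a b => Subtype.ext (quot_comm p Y a.2 b.2)⟩⟩

theorem quot_pow {v : Y ⧸ phi p Y} (hv : v ∈ quot p Y) : v ^ p = 1 := by
  obtain ⟨-, hpow⟩ := CfsgLib.PGroupBasic.commutator_pow_le_frattini
    (CfsgLib.Solvable.isPGroup_pCore p : IsPGroup p (core p Y))
  obtain ⟨x, hx, rfl⟩ := hv
  rw [← map_pow]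
  exact (QuotientGroup.eq_one_iff _).2 ⟨(⟨x, hx⟩ : core p Y) ^ p, hpow _, rfl⟩

open scoped IsMulCommutative

/-- The action on the Frattini quotient. -/
noncomputable def act : Y →* AddMonoid.End (Additive (quot p Y)) :=
  (RegularOrbit.endoHom (quot p Y)).comp (QuotientGroup.mk' (phi p Y))

variable {p Y}

theorem act_eq_one_of_mem {y : Y} (hy : y ∈ core p Y) : act p Y y = 1 :=
  (RegularOrbit.endoHom_eq_one_iff (quot p Y) _).2
    (mem_centralizer_iff.2 fun _ hv => quot_comm p Y hv (mem_map_of_mem _ hy))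

theorem mem_of_act_eq_one (h0 : Cfsg.pPrimeCore p Y = ⊥) (hs : Cfsg.IsPSolvable p Y) {y : Y}
    (h : act p Y y = 1) : y ∈ core p Y :=
  CfsgLib.PSoluble.centralizer_frattini_quotient_le h0 hs rfl rfl
    (mem_comap.2 ((RegularOrbit.endoHom_eq_one_iff (quot p Y) _).1 h))

theorem act_apply (y : Y) (v : Additive (quot p Y)) :
    ((Additive.toMul (act p Y y v) : quot p Y) : Y ⧸ phi p Y) =
      (y : Y ⧸ phi p Y) * (Additive.toMul v : quot p Y) * (y : Y ⧸ phi p Y)⁻¹ := rfl

/-- `y - 1` is the commutator. -/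
theorem act_sub_one_apply (y : Y) (v : Additive (quot p Y)) :
    ((Additive.toMul ((act p Y y - 1) v) : quot p Y) : Y ⧸ phi p Y) =
      (y : Y ⧸ phi p Y) * (Additive.toMul v : quot p Y) * (y : Y ⧸ phi p Y)⁻¹ *
        ((Additive.toMul v : quot p Y) : Y ⧸ phi p Y)⁻¹ := by
  have h : (act p Y y - 1) v = act p Y y v - v := rfl
  rw [h, toMul_sub, div_eq_mul_inv, Subgroup.coe_mul, Subgroup.coe_inv, act_apply]

theorem exists_lift (v : Additive (quot p Y)) :
    ∃ u ∈ core p Y, (u : Y ⧸ phi p Y) = ((Additive.toMul v : quot p Y) : Y ⧸ phi p Y) := by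
  obtain ⟨u, hu, h⟩ := (Additive.toMul v : quot p Y).2
  exact ⟨u, hu, h⟩

theorem core_quotient_eq_bot : Cfsg.pCore p (Y ⧸ core p Y) = ⊥ := by
  set φ := QuotientGroup.mk' (core p Y)
  have hle : (Cfsg.pCore p (Y ⧸ core p Y)).comap φ ≤ core p Y :=
    CfsgLib.Solvable.le_pCore p ((CfsgLib.Solvable.pCore_normal p).comap φ)
      ((CfsgLib.Solvable.isPGroup_pCore p).comap_of_ker_isPGroup φ (by
        rw [QuotientGroup.ker_mk']; exact CfsgLib.Solvable.isPGroup_pCore p))
  rw [← map_comap_eq_self_of_surjective (QuotientGroup.mk'_surjective (core p Y))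
    (Cfsg.pCore p (Y ⧸ core p Y)), Subgroup.map_eq_bot_iff, QuotientGroup.ker_mk']
  exact hle

theorem zmod_smul (v : Additive (quot p Y)) : p • v = 0 :=
  congrArg Additive.ofMul (Subtype.ext (quot_pow p Y (Additive.toMul v : quot p Y).2) :
    (Additive.toMul v : quot p Y) ^ p = 1)

noncomputable instance quot_module : Module (ZMod p) (Additive (quot p Y)) :=
  AddCommGroup.zmodModule zmod_smul

instance quot_moduleFinite : Module.Finite (ZMod p) (Additive (quot p Y)) := Module.Finite.of_finite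

/-- Extension of scalars of the action. -/
theorem exists_rep (h0 : Cfsg.pPrimeCore p Y = ⊥) (hs : Cfsg.IsPSolvable p Y) :
    ∃ (d : ℕ) (f : AddMonoid.End (Additive (quot p Y)) →+*
        Module.End (AlgebraicClosure (ZMod p)) (Fin d → AlgebraicClosure (ZMod p)))
      (ρ : Representation (AlgebraicClosure (ZMod p)) (Y ⧸ core p Y)
        (Fin d → AlgebraicClosure (ZMod p))),
      Function.Injective f ∧ Function.Injective ρ ∧ ∀ y : Y, ρ (y : Y ⧸ core p Y) = f (act p Y y) := by
  classical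
  let K := AlgebraicClosure (ZMod p)
  let b : Module.Basis (Fin (Module.finrank (ZMod p) (Additive (quot p Y)))) (ZMod p) (Additive (quot p Y)) :=
    Module.finBasis (ZMod p) (Additive (quot p Y))
  let d := Module.finrank (ZMod p) (Additive (quot p Y))
  let j : AddMonoid.End (Additive (quot p Y)) →+* Module.End (ZMod p) (Additive (quot p Y)) :=
    { toFun := fun g => AddMonoidHom.toZModLinearMap p (g : Additive (quot p Y) →+ Additive (quot p Y))
      map_one' := LinearMap.ext fun _ => rfl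
      map_mul' := fun _ _ => LinearMap.ext fun _ => rfl
      map_zero' := LinearMap.ext fun _ => rfl
      map_add' := fun _ _ => LinearMap.ext fun _ => rfl }
  have hj : Function.Injective j := fun g g' h =>
    DFunLike.ext (F := AddMonoid.End (Additive (quot p Y))) g g' fun v => LinearMap.congr_fun h v
  let f : AddMonoid.End (Additive (quot p Y)) →+* Module.End K (Fin d → K) :=
    (((Matrix.toLinAlgEquiv' (R := K) (n := Fin d)).toRingEquiv.toRingHom.comp
      ((algebraMap (ZMod p) K).mapMatrix (m := Fin d))).comp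
        (LinearMap.toMatrixAlgEquiv b).toRingEquiv.toRingHom).comp j
  have hf : Function.Injective f := fun g g' h =>
    hj ((LinearMap.toMatrixAlgEquiv b).injective
      (Matrix.map_injective (algebraMap (ZMod p) K).injective (Matrix.toLinAlgEquiv'.injective h)))
  let ρ0 : Representation K Y (Fin d → K) := f.toMonoidHom.comp (act p Y)
  have hker : core p Y ≤ ρ0.ker := fun y hy => by
    rw [MonoidHom.mem_ker]
    show f (act p Y y) = 1
    rw [act_eq_one_of_mem hy, map_one]
  refine ⟨d, f, QuotientGroup.lift (core p Y) ρ0 hker, hf, ?_, fun y => rfl⟩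
  refine (injective_iff_map_eq_one _).2 fun z hz => ?_
  obtain ⟨y, rfl⟩ := QuotientGroup.mk'_surjective (core p Y) z
  refine (QuotientGroup.eq_one_iff y).2 (mem_of_act_eq_one h0 hs (hf ?_))
  rw [map_one]
  exact hz

/-- An element outside the `p`-core of a group without normal `p`-subgroups moves an invariant Sylow
subgroup of the `p'`-core. -/
theorem exists_moved {H : Type u} [Group H] [Finite H] (hH0 : Cfsg.pCore p H = ⊥)
    (hs : Cfsg.IsPSolvable p H) (P : Subgroup H) (hP : IsPGroup p P) {a : H} (ha : a ∈ P) (ha1 : a ≠ 1) :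
    ∃ (q : ℕ) (Q : Subgroup H), q.Prime ∧ q ≠ p ∧ IsPGroup q Q ∧ P ≤ normalizer (Q : Set H) ∧
      ∃ g ∈ Q, a * g * a⁻¹ * g⁻¹ ≠ 1 := by
  set R := Cfsg.pPrimeCore p H with hR
  haveI : R.Normal := CfsgLib.Solvable.pPrimeCore_normal p
  have hRc : (Nat.card R).Coprime p := CfsgLib.Solvable.coprime_card_pPrimeCore p
  obtain ⟨j, hj⟩ := IsPGroup.iff_card.1 hP
  have hPR : P ≤ normalizer (R : Set H) := by rw [Subgroup.normalizer_eq_top]; exact le_top
  have hcop : (Nat.card P).Coprime (Nat.card R) := by rw [hj]; exact hRc.symm.pow_left j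
  have hsolP : Group.IsSolvable P := by
    haveI : Group.IsNilpotent P := hP.isNilpotent
    infer_instance
  have hinv : ∀ q : Nat.Primes, ∃ S : Sylow (q : ℕ) R,
      P ≤ normalizer ((S : Subgroup R).map R.subtype : Set H) := fun q => by
    haveI := Fact.mk q.2
    exact CfsgLib.CoprimeAct.exists_invariant_sylow hPR hcop (Or.inl hsolP) (q : ℕ)
  choose Ps hPs using hinv
  obtain ⟨q, g, hg, hne⟩ : ∃ (q : Nat.Primes) (g : H), g ∈ (Ps q : Subgroup R).map R.subtype ∧
      a * g * a⁻¹ * g⁻¹ ≠ 1 := by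
    by_contra! hall
    have hle : R ≤ centralizer ({a} : Set H) := by
      have htop : (⨆ q : Nat.Primes, (Ps q : Subgroup R)) = ⊤ := CfsgLib.Solvable.iSup_sylow_eq_top Ps
      conv_lhs => rw [← Subgroup.range_subtype R, MonoidHom.range_eq_map, ← htop, Subgroup.map_iSup]
      refine iSup_le fun q r hr => mem_centralizer_singleton_iff.2 ?_
      exact (mul_inv_eq_iff_eq_mul.1 (mul_inv_eq_one.1 (hall q r hr))).symm
    have haR : a ∈ R := CfsgLib.FGSA.AbelianSylow.centralizer_pPrimeCore_le hH0 hs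
      (mem_centralizer_iff.2 fun r hr => mem_centralizer_singleton_iff.1 (hle hr))
    have h1 : a ∈ P ⊓ R := ⟨ha, haR⟩
    rw [Subgroup.inf_eq_bot_of_coprime hcop] at h1
    exact ha1 h1
  haveI := Fact.mk q.2
  refine ⟨q, (Ps q : Subgroup R).map R.subtype, q.2, ?_, (Ps q).2.map _, hPs q, g, hg, hne⟩
  intro hqp
  set Q := (Ps q : Subgroup R).map R.subtype with hQ
  obtain ⟨e, he⟩ := IsPGroup.iff_card.1 ((Ps q).2.map R.subtype)
  have h1 : Nat.card Q ∣ Nat.card R := by
    rw [hQ, card_map_of_injective R.subtype_injective]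
    exact card_subgroup_dvd_card _
  have h2 : Nat.card Q = 1 :=
    Nat.eq_one_of_dvd_coprimes (hRc.pow_right e) h1 (dvd_of_eq (he.trans (congrArg (· ^ e) hqp)))
  rw [Subgroup.eq_bot_of_card_eq Q h2, mem_bot] at hg
  subst hg
  exact hne (by group)

/-- A `p`-group has `p`-length at most one. -/
theorem pLengthLE_one_of_isPGroup {G : Type u} [Group G] [Finite G] (hG : IsPGroup p G) :
    Cfsg.PLengthLE p 1 G := by
  have h2 : (⊤ : Subgroup G) ≤ PLen.U p G (1 + 1) := by
    refine PLen.le_succ (inferInstance : (⊤ : Subgroup G).Normal) ?_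
    obtain ⟨k, hk⟩ := IsPGroup.iff_card.1 hG
    refine (PLen.Good.of_dvd (n := p ^ k) ?_ ?_)
    · simp [PLen.Good, show ¬ Even 1 by decide]
    · rw [Subgroup.relIndex_top_right, ← hk]
      exact Subgroup.index_dvd_card _
  exact top_le_iff.1 (h2.trans (PLen.U_le_succ _))

/-- One step down the upper p-series. -/
theorem pLengthLE_succ {G : Type u} [Group G] [Finite G] (k : ℕ)
    (h : Cfsg.PLengthLE p k (G ⧸ core p G)) : Cfsg.PLengthLE p (1 + k) G := by
  exact PLen.pLengthLE_add (core p G) (pLengthLE_one_of_isPGroup (CfsgLib.Solvable.isPGroup_pCore p)) h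

/-- Removing the `p'`-core. -/
theorem pLengthLE_of_pPrimeCore {G : Type u} [Group G] [Finite G] (k : ℕ)
    (h : ∀ _ : (Cfsg.pPrimeCore p G).Normal, Cfsg.PLengthLE p k (G ⧸ Cfsg.pPrimeCore p G)) :
    Cfsg.PLengthLE p k G := by
  haveI : (Cfsg.pPrimeCore p G).Normal := CfsgLib.Solvable.pPrimeCore_normal p
  have := PLen.pLengthLE_add (Cfsg.pPrimeCore p G)
    (PLen.pLengthLE_zero_of_coprime (CfsgLib.Solvable.coprime_card_pPrimeCore p)) (h inferInstance)
  rwa [zero_add] at this

end CfsgLib.HallHigman.FRep
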