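/-
A quadratically acting abelian group inside the derived group of its normalising p-group centralises
every invariant 2-group, in characteristic three.
-/
import Mathlib
import Cfsg.Agent.Solvable.PGroupBasic

set_option autoImplicit false
set_option linter.style.haveILetI false
set_option linter.unusedSectionVars false

namespace CfsgLib.HallHigman.Quad

open Subgroup
open scoped commutatorElement

/-- An element of order prime to the characteristic that commutes with its two conjugates by a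
quadratic element commutes with that element. -/
theorem commute_of_quad {K R : Type*} [Field K] [Ring R] [Algebra K R] (h2 : (2 : K) ≠ 0) {e n : R} (m : ℕ)
    (hm : (m : K) ≠ 0) (he : e ^ m = 1) (hn : n * n = 0)
    (h1 : Commute e ((1 + n) * e * (1 - n))) (h1' : Commute e ((1 - n) * e * (1 + n))) : Commute e n := by
  set D := n * e - e * n with hD
  have hsub : (1 + n) * e * (1 - n) - (1 - n) * e * (1 + n) = D + D := by rw [hD]; noncomm_ring
  have hcD : Commute e D := by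
    have h := h1.sub_right h1'
    rw [hsub] at h
    have h3 : (2 : K) • (e * D) = (2 : K) • (D * e) := by
      rw [two_smul, two_smul, ← mul_add, ← add_mul]
      exact h.eq
    have h4 := congrArg (fun x => (2 : K)⁻¹ • x) h3
    simp only [smul_smul, inv_mul_cancel₀ h2, one_smul] at h4
    exact h4
  have hind : ∀ i : ℕ, n * e ^ (i + 1) - e ^ (i + 1) * n = ((i + 1 : ℕ) : K) • (e ^ i * D) := by
    intro i
    induction i with
    | zero => simp [hD]
    | succ i ih =>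
      have h3 : n * e ^ (i + 1 + 1) - e ^ (i + 1 + 1) * n =
          (n * e ^ (i + 1) - e ^ (i + 1) * n) * e + e ^ (i + 1) * D := by
        rw [hD, pow_succ e (i + 1)]; noncomm_ring
      have hcomm : e ^ i * D * e = e ^ (i + 1) * D := by
        rw [mul_assoc, ← hcD.eq, ← mul_assoc, ← pow_succ]
      rw [h3, ih, smul_mul_assoc, hcomm, Nat.cast_add_one (i + 1), add_smul, one_smul]
  obtain ⟨i, rfl⟩ : ∃ i, m = i + 1 := ⟨m - 1, by
    rcases Nat.eq_zero_or_pos m with rfl | h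
    · simp at hm
    · omega⟩
  have h3 := hind i
  rw [he, mul_one, one_mul, sub_self] at h3
  have h4 := congrArg (fun x => ((i + 1 : ℕ) : K)⁻¹ • x) h3
  simp only [smul_zero, smul_smul, inv_mul_cancel₀ hm, one_smul] at h4
  have h5 := congrArg (fun x => e * x) h4
  simp only [mul_zero, ← mul_assoc, ← pow_succ', he, one_mul] at h5
  exact (sub_eq_zero.1 h5.symm).symm

section Main

variable {Γ : Type*} [Group Γ] [Finite Γ] {K : Type*} [Field K] [CharP K 3] {V : Type*} [AddCommGroup V]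
  [Module K V] (ρ : Representation K Γ V)

theorem rep_mul (g h : Γ) (v : V) : ρ (g * h) v = ρ g (ρ h v) := by
  rw [map_mul, Module.End.mul_apply]

variable {Q A B : Subgroup Γ}

/-- The weight space of a sign character. -/
def Wt (E : Subgroup Γ) (χ : Γ → K) : Submodule K V :=
  ⨅ z : E, Module.End.eigenspace (ρ (z : Γ)) (χ z)

theorem mem_Wt {E : Subgroup Γ} {χ : Γ → K} {v : V} :
    v ∈ Wt ρ E χ ↔ ∀ z ∈ E, ρ z v = χ z • v := by
  simp [Wt, Submodule.mem_iInf, Module.End.mem_eigenspace_iff]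

/-- The theorem for a group `Q` of class two whose commutators are involutions commuting with `A`. -/
theorem centralizes_of_special (hinj : Function.Injective ρ) (hQ : IsPGroup 2 Q) (hB : IsPGroup 3 B)
    (hABc : A ≤ ⁅B, B⁆) (hAcomm : ∀ a ∈ A, ∀ a' ∈ A, a * a' = a' * a)
    (hBA : B ≤ normalizer (A : Set Γ)) (hBQ : B ≤ normalizer (Q : Set Γ))
    (hquad : ∀ a ∈ A, (ρ a - 1) * (ρ a - 1) = 0)
    (hAB2 : ∀ a ∈ A, ∀ b ∈ B, (ρ a - 1) * ((ρ b - 1) * (ρ b - 1)) = 0)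
    (E : Subgroup Γ) (hE1 : ∀ z ∈ E, z ∈ Q ∧ z * z = 1 ∧ (∀ q ∈ Q, z * q = q * z) ∧ ∀ a ∈ A, z * a = a * z)
    (hEB : B ≤ normalizer (E : Set Γ))
    (hE2 : ∀ q ∈ Q, ∀ r ∈ Q, q * r * q⁻¹ * r⁻¹ ∈ E) :
    ∀ a ∈ A, ∀ q ∈ Q, a * q * a⁻¹ * q⁻¹ = 1 := by
  classical
  have h3K : (3 : K) = 0 := CharP.cast_eq_zero K 3
  have h2 : (2 : K) ≠ 0 := by
    intro h
    exact one_ne_zero (α := K) (by linear_combination h3K - h)
  have hneg : (-1 : K) ≠ 1 := fun h => h2 (by linear_combination -h)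
  have hABle : A ≤ B := hABc.trans (commutator_le.2 fun g hg h hh =>
    mul_mem (mul_mem (mul_mem hg hh) (inv_mem hg)) (inv_mem hh))
  have hAQ : ∀ a ∈ A, ∀ q ∈ Q, a * q * a⁻¹ ∈ Q := fun a ha q hq =>
    (mem_normalizer_iff.1 (hBQ (hABle ha)) q).1 hq
  intro a₀ ha₀ q₀ hq₀
  by_contra hne
  -- a minimal invariant subspace on which some commutator acts
  let Inv : Submodule K V → Prop := fun U =>
    (∀ g, g ∈ Q ∨ g ∈ A → ∀ v ∈ U, ρ g v ∈ U) ∧
      ∃ a ∈ A, ∃ q ∈ Q, ∃ v ∈ U, ρ (a * q * a⁻¹ * q⁻¹) v ≠ v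
  have htop : Inv ⊤ := by
    refine ⟨fun _ _ _ _ => Submodule.mem_top, a₀, ha₀, q₀, hq₀, ?_⟩
    by_contra hall
    push Not at hall
    refine hne (hinj ?_)
    rw [map_one]
    exact LinearMap.ext fun v => hall v Submodule.mem_top
  obtain ⟨U, hU, hUmin⟩ : ∃ U, Inv U ∧ ∀ U' < U, ¬ Inv U' := by
    haveI : Finite Γ := inferInstance
    -- work inside the span of one orbit
    obtain ⟨-, a, ha, q, hq, v, -, hv⟩ := htop
    let S := Submodule.span K (Set.range fun g : Γ => ρ g v)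
    haveI : FiniteDimensional K S := FiniteDimensional.span_of_finite K (Set.finite_range _)
    have hS : Inv S := by
      refine ⟨fun g _ w hw => ?_, a, ha, q, hq, v, Submodule.subset_span ⟨1, by simp⟩, hv⟩
      induction hw using Submodule.span_induction with
      | mem w hw => obtain ⟨h, rfl⟩ := hw; exact Submodule.subset_span ⟨g * h, rep_mul ρ g h v⟩
      | zero => rw [map_zero]; exact zero_mem _
      | add x y _ _ hx hy => rw [map_add]; exact add_mem hx hy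
      | smul c x _ hx => rw [map_smul]; exact Submodule.smul_mem _ c hx
    obtain ⟨n, hn, hmin⟩ : ∃ n, (∃ U, U ≤ S ∧ Inv U ∧ Module.finrank K U = n) ∧
        ∀ m < n, ¬ ∃ U, U ≤ S ∧ Inv U ∧ Module.finrank K U = m :=
      have h : ∃ n, ∃ U, U ≤ S ∧ Inv U ∧ Module.finrank K U = n := ⟨_, S, le_rfl, hS, rfl⟩
      ⟨Nat.find h, Nat.find_spec h, fun m hm => Nat.find_min h hm⟩
    obtain ⟨U, hUS, hU, hUn⟩ := hn
    refine ⟨U, hU, fun U' hlt hU' => hmin _ ?_ ⟨U', hlt.le.trans hUS, hU', rfl⟩⟩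
    haveI : FiniteDimensional K U := Submodule.finiteDimensional_of_le hUS
    exact hUn ▸ Submodule.finrank_lt_finrank_of_lt hlt
  have hcommE : ∀ z ∈ E, ∀ g, g ∈ Q ∨ g ∈ A → ∀ v, ρ z (ρ g v) = ρ g (ρ z v) := by
    intro z hz g hg v
    rw [← rep_mul, ← rep_mul]
    rcases hg with hg | hg
    · rw [(hE1 z hz).2.2.1 g hg]
    · rw [(hE1 z hz).2.2.2 g hg]
  -- the elements of `E` act by signs
  have hsign : ∀ z ∈ E, ∃ c : K, (c = 1 ∨ c = -1) ∧ ∀ v ∈ U, ρ z v = c • v := by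
    intro z hz
    let Um : K → Submodule K V := fun c => U ⊓ Module.End.eigenspace (ρ z) c
    have hUinv : ∀ c g, g ∈ Q ∨ g ∈ A → ∀ v ∈ Um c, ρ g v ∈ Um c := by
      intro c g hg v hv
      refine ⟨hU.1 g hg v hv.1, ?_⟩
      rw [SetLike.mem_coe, Module.End.mem_eigenspace_iff, hcommE z hz g hg,
        Module.End.mem_eigenspace_iff.1 hv.2, map_smul]
    obtain ⟨a, ha, q, hq, v, hv, hvne⟩ := hU.2
    have hzU : ∀ w ∈ U, ρ z w ∈ U := fun w hw => hU.1 z (Or.inl (hE1 z hz).1) w hw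
    have hzz : ρ z (ρ z v) = v := by
      rw [← rep_mul, (hE1 z hz).2.1, map_one, Module.End.one_apply]
    have hp : v + ρ z v ∈ Um 1 := ⟨add_mem hv (hzU v hv), by
      rw [SetLike.mem_coe, Module.End.mem_eigenspace_iff, map_add, hzz, one_smul, add_comm]⟩
    have hm : v - ρ z v ∈ Um (-1) := ⟨sub_mem hv (hzU v hv), by
      rw [SetLike.mem_coe, Module.End.mem_eigenspace_iff, map_sub, hzz, neg_smul, one_smul, neg_sub]⟩
    have key : ∀ c : K, ∀ w ∈ Um c, ρ (a * q * a⁻¹ * q⁻¹) w ≠ w → ∀ u ∈ U, ρ z u = c • u := by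
      intro c w hw hwne u hu
      have hle : Um c = U := (eq_or_lt_of_le (inf_le_left : Um c ≤ U)).resolve_right fun hlt =>
        hUmin _ hlt ⟨hUinv c, a, ha, q, hq, w, hw, hwne⟩
      exact Module.End.mem_eigenspace_iff.1 (hle.ge hu).2
    by_cases h : ρ (a * q * a⁻¹ * q⁻¹) (v + ρ z v) = v + ρ z v
    · refine ⟨-1, Or.inr rfl, key _ _ hm fun h' => hvne ?_⟩
      have h4 : ρ (a * q * a⁻¹ * q⁻¹) ((2 : K) • v) = (2 : K) • v := by
        rw [two_smul]
        have : v + v = (v + ρ z v) + (v - ρ z v) := by abel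
        rw [this, map_add, h, h']
      rw [map_smul] at h4
      exact (smul_right_injective V h2) h4
    · exact ⟨1, Or.inl rfl, key _ _ hp h⟩
  let χ : Γ → K := fun z => if h : z ∈ E then (hsign z h).choose else 1
  have hχsign : ∀ z ∈ E, χ z = 1 ∨ χ z = -1 := fun z hz => by
    simp only [χ, dif_pos hz]; exact (hsign z hz).choose_spec.1
  set W := Wt ρ E χ with hW
  have hUW : U ≤ W := fun v hv => (mem_Wt ρ).2 fun z hz => by
    simp only [χ, dif_pos hz]; exact (hsign z hz).choose_spec.2 v hv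
  have hWinv : ∀ g, g ∈ Q ∨ g ∈ A → ∀ v ∈ W, ρ g v ∈ W := fun g hg v hv => (mem_Wt ρ).2 fun z hz => by
    rw [hcommE z hz g hg, (mem_Wt ρ).1 hv z hz, map_smul]
  obtain ⟨a₁, ha₁, q₁, hq₁, v₁, hv₁U, hv₁⟩ := hU.2
  have hv₁W := hUW hv₁U
  have hv₁0 : v₁ ≠ 0 := fun h => hv₁ (by rw [h, map_zero])
  have hχeq : ∀ z ∈ E, ∀ c : K, ρ z v₁ = c • v₁ → χ z = c := fun z hz c h =>
    smul_left_injective K hv₁0 (((mem_Wt ρ).1 hv₁W z hz).symm.trans h)
  have hχmul : ∀ z ∈ E, ∀ z' ∈ E, χ (z * z') = χ z * χ z' := by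
    intro z hz z' hz'
    refine hχeq _ (mul_mem hz hz') _ ?_
    rw [rep_mul, (mem_Wt ρ).1 hv₁W z' hz', map_smul, (mem_Wt ρ).1 hv₁W z hz, smul_smul, mul_comm]
  -- the normalising group preserves the character
  have hinvB : ∀ b ∈ B, ∀ z ∈ E, χ (b * z * b⁻¹) = χ z := by
    intro b hb
    by_contra hcon
    push Not at hcon
    obtain ⟨z, hz, hzne⟩ := hcon
    have hconjE : ∀ c ∈ B, ∀ x ∈ E, c * x * c⁻¹ ∈ E := fun c hc x hx =>
      (mem_normalizer_iff.1 (hEB hc) x).1 hx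
    -- also the square of `b` moves it
    obtain ⟨k, hk⟩ := hB ⟨b, hb⟩
    have hbk : b ^ 3 ^ k = 1 := congrArg Subtype.val hk
    set b' := b * b with hb'
    have hb'B : b' ∈ B := mul_mem hb hb
    obtain ⟨z2, hz2, hz2ne⟩ : ∃ z2 ∈ E, χ (b' * z2 * b'⁻¹) ≠ χ z2 := by
      by_contra hcon
      push Not at hcon
      apply hzne
      have hiter : ∀ j : ℕ, ∀ x ∈ E, χ (b' ^ j * x * (b' ^ j)⁻¹) = χ x := by
        intro j
        induction j with
        | zero => intro x _; simp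
        | succ j ih =>
          intro x hx
          rw [show b' ^ (j + 1) * x * (b' ^ (j + 1))⁻¹ = b' * (b' ^ j * x * (b' ^ j)⁻¹) * b'⁻¹ by
            rw [pow_succ']; group, hcon _ (hconjE _ (pow_mem hb'B j) x hx), ih x hx]
      obtain ⟨j, hj⟩ : ∃ j, 3 ^ k + 1 = 2 * j := by
        obtain ⟨j, hj⟩ := (Odd.pow (by decide : Odd 3) : Odd (3 ^ k))
        exact ⟨j + 1, by omega⟩
      have h5 : b' ^ j = b := by
        rw [hb', ← sq, ← pow_mul, ← hj, pow_succ, hbk, one_mul]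
      have := hiter j z hz
      rwa [h5] at this
    -- so `A` is trivial on the weight space
    have htriv : ∀ a ∈ A, ∀ v ∈ W, ρ a v = v := by
      intro a ha v hv
      have hmovW : ∀ c ∈ B, ∀ x ∈ E, ∀ w ∈ W,
          ρ x (ρ a (ρ c w)) = χ (c⁻¹ * x * c) • ρ a (ρ c w) := by
        intro c hc x hx w hw
        have h := (mem_Wt ρ).1 hw (c⁻¹ * x * c) (by simpa using hconjE c⁻¹ (inv_mem hc) x hx)
        have h' : ρ x (ρ c w) = χ (c⁻¹ * x * c) • ρ c w := by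
          rw [← rep_mul, show x * c = c * (c⁻¹ * x * c) by group, rep_mul, h, map_smul]
        rw [hcommE x hx a (Or.inr ha), h', map_smul]
      have hmov : ∀ c ∈ B, ∀ x ∈ E, ∀ w ∈ W,
          ρ x (ρ a (ρ c w) - ρ c w) = χ (c⁻¹ * x * c) • (ρ a (ρ c w) - ρ c w) := by
        intro c hc x hx w hw
        have h := (mem_Wt ρ).1 hw (c⁻¹ * x * c) (by simpa using hconjE c⁻¹ (inv_mem hc) x hx)
        have h' : ρ x (ρ c w) = χ (c⁻¹ * x * c) • ρ c w := by
          rw [← rep_mul, show x * c = c * (c⁻¹ * x * c) by group, rep_mul, h, map_smul]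
        rw [map_sub, hmovW c hc x hx w hw, h', smul_sub]
      set x0 := ρ a v - v with hx0
      set x1 := ρ a (ρ b v) - ρ b v with hx1
      set x2 := ρ a (ρ b' v) - ρ b' v with hx2
      have hsum : x2 - x1 - x1 + x0 = 0 := by
        have h := LinearMap.congr_fun (hAB2 a ha b hb) v
        simp only [Module.End.mul_apply, LinearMap.sub_apply, Module.End.one_apply, LinearMap.zero_apply,
          map_sub] at h
        rw [hx2, hx1, hx0, hb', rep_mul]
        rw [← h]; abel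
      -- separate the weights
      set s := b * z * b⁻¹ with hs
      set t := b' * z2 * b'⁻¹ with ht
      have hs1 : s ∈ E := hconjE b hb z hz
      have ht1 : t ∈ E := hconjE b' hb'B z2 hz2
      have e0 : ∀ x ∈ E, ρ x x0 = χ x • x0 := fun x hx => by
        have := hmov 1 (one_mem B) x hx v hv
        simpa [hx0] using this
      have e1 : ρ s x1 = χ z • x1 := by
        rw [hx1, hmov b hb s hs1 v hv, show b⁻¹ * s * b = z by rw [hs]; group]
      have e2 : ρ t x2 = χ z2 • x2 := by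
        rw [hx2, hmov b' hb'B t ht1 v hv, show b'⁻¹ * t * b' = z2 by rw [ht]; group]
      have hcomm12 : ρ t (ρ s x2) = ρ s (ρ t x2) := hcommE t ht1 s (Or.inl (hE1 s hs1).1) x2
      have h6 : ρ s (x2 - x1 - x1 + x0) - χ z • (x2 - x1 - x1 + x0) = 0 := by rw [hsum]; simp
      simp only [map_add, map_sub, e1, e0 s hs1, smul_add, smul_sub] at h6
      have h7 : (ρ s x2 - χ z • x2) + (χ s - χ z) • x0 = 0 := by rw [← h6, sub_smul]; abel
      have h8 : ρ t ((ρ s x2 - χ z • x2) + (χ s - χ z) • x0) -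
          χ z2 • ((ρ s x2 - χ z • x2) + (χ s - χ z) • x0) = 0 := by rw [h7]; simp
      simp only [map_add, map_sub, map_smul, hcomm12, e2, e0 t ht1, smul_add, smul_sub, smul_smul] at h8
      have h9 : ((χ t - χ z2) * (χ s - χ z)) • x0 = 0 := by
        rw [← h8, sub_mul, sub_smul, mul_comm (χ z2) (χ z)]
        rw [mul_comm (χ s - χ z) (χ t)]
        abel
      rcases smul_eq_zero.1 h9 with h10 | h10
      · rcases mul_eq_zero.1 h10 with h10 | h10
        · exact absurd (sub_eq_zero.1 h10) hz2ne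
        · exact absurd (sub_eq_zero.1 h10) hzne
      · exact sub_eq_zero.1 h10
    refine hv₁ ?_
    have hi : a₁⁻¹ ∈ A := inv_mem ha₁
    rw [mul_assoc, mul_assoc, rep_mul, rep_mul, rep_mul,
      htriv _ hi _ (hWinv _ (Or.inl (inv_mem hq₁)) _ hv₁W), ← rep_mul ρ q₁ q₁⁻¹, mul_inv_cancel,
      map_one, Module.End.one_apply, htriv _ ha₁ _ hv₁W]
  -- the pairing
  set f : Γ → Γ → K := fun q r => χ (q * r * q⁻¹ * r⁻¹) with hf
  have hfW : ∀ q ∈ Q, ∀ r ∈ Q, ∀ v ∈ W, ρ q (ρ r v) = f q r • ρ r (ρ q v) := by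
    intro q hq r hr v hv
    rw [← rep_mul, ← rep_mul, show q * r = q * r * q⁻¹ * r⁻¹ * (r * q) by group, rep_mul]
    exact (mem_Wt ρ).1 (hWinv _ (Or.inl (mul_mem hr hq)) v hv) _ (hE2 q hq r hr)
  have hfsign : ∀ q ∈ Q, ∀ r ∈ Q, f q r = 1 ∨ f q r = -1 := fun q hq r hr => hχsign _ (hE2 q hq r hr)
  have hfsq : ∀ q ∈ Q, ∀ r ∈ Q, f q r * f q r = 1 := fun q hq r hr => by
    rcases hfsign q hq r hr with h | h <;> simp [h]
  have hfl : ∀ q ∈ Q, ∀ q' ∈ Q, ∀ r ∈ Q, f (q * q') r = f q r * f q' r := by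
    intro q hq q' hq' r hr
    have h := (hE1 _ (hE2 q' hq' r hr)).2.2.1 q hq
    simp only [hf]
    rw [mul_comm, ← hχmul _ (hE2 q' hq' r hr) _ (hE2 q hq r hr)]
    congr 1
    calc q * q' * r * (q * q')⁻¹ * r⁻¹ = (q * (q' * r * q'⁻¹ * r⁻¹) * q⁻¹) * (q * r * q⁻¹ * r⁻¹) := by group
      _ = (q' * r * q'⁻¹ * r⁻¹) * (q * r * q⁻¹ * r⁻¹) := by rw [← h, mul_inv_cancel_right]
  have hfone : f 1 1 = 1 := by
    simp only [hf]
    exact hχeq _ (by simp) 1 (by simp)
  have hfself : ∀ q ∈ Q, f q q = 1 := fun q _ => by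
    simp only [hf, mul_inv_cancel_right, mul_inv_cancel]
    exact hχeq _ (one_mem E) 1 (by simp)
  have hfsymm : ∀ q ∈ Q, ∀ r ∈ Q, f q r = f r q := by
    intro q hq r hr
    simp only [hf]
    rw [show r * q * r⁻¹ * q⁻¹ = (q * r * q⁻¹ * r⁻¹)⁻¹ by group,
      inv_eq_of_mul_eq_one_right (hE1 _ (hE2 q hq r hr)).2.1]
  have hfr : ∀ q ∈ Q, ∀ r ∈ Q, ∀ r' ∈ Q, f q (r * r') = f q r * f q r' := fun q hq r hr r' hr' => by
    rw [hfsymm q hq _ (mul_mem hr hr'), hfl r hr r' hr' q hq, hfsymm r hr q hq, hfsymm r' hr' q hq]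
  have hfinv : ∀ b ∈ B, ∀ q ∈ Q, ∀ r ∈ Q, f (b * q * b⁻¹) (b * r * b⁻¹) = f q r := by
    intro b hb q hq r hr
    simp only [hf]
    rw [← hinvB b hb _ (hE2 q hq r hr)]
    congr 1
    group
  -- the quotient by the radical, as functions
  set φ : Γ → (↥Q → K) := fun q s => f q s with hφ
  have hφmul : ∀ q ∈ Q, ∀ r ∈ Q, φ (q * r) = φ q * φ r := fun q hq r hr =>
    funext fun s => hfl q hq r hr s s.2
  have hφsq : ∀ q ∈ Q, φ q * φ q = 1 := fun q hq => funext fun s => hfsq q hq s s.2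
  have hφ1 : φ 1 = 1 := by
    have h := hφmul 1 (one_mem Q) 1 (one_mem Q)
    rw [one_mul, hφsq 1 (one_mem Q)] at h
    exact h
  have hφinv : ∀ b ∈ B, ∀ q ∈ Q, ∀ r ∈ Q, φ q = φ r → φ (b * q * b⁻¹) = φ (b * r * b⁻¹) := by
    intro b hb q hq r hr h
    funext s
    have hs : b⁻¹ * (s : Γ) * b ∈ Q := by
      simpa using (mem_normalizer_iff.1 (hBQ (inv_mem hb)) (s : Γ)).1 s.2
    have e : (s : Γ) = b * (b⁻¹ * s * b) * b⁻¹ := by group
    show f (b * q * b⁻¹) s = f (b * r * b⁻¹) s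
    rw [e, hfinv b hb q hq _ hs, hfinv b hb r hr _ hs]
    exact congrFun h ⟨_, hs⟩
  -- the order three
  have ha3 : ∀ a ∈ A, a ^ 3 = 1 := by
    intro a ha
    refine hinj ?_
    rw [map_pow, map_one]
    have h := hquad a ha
    set n := ρ a - 1 with hn
    rw [show ρ a = 1 + n by rw [hn]; abel]
    have h3 : (3 : K) • n = 0 := by rw [h3K, zero_smul]
    calc (1 + n) ^ 3 = 1 + (n + n + n) + (n * n + n * n + n * n) + n * n * n := by
          rw [pow_succ, pow_two]; noncomm_ring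
      _ = 1 := by
          rw [show n + n + n = (3 : K) • n by module, h3, h]; simp
  have ha2 : ∀ a ∈ A, a * a = a⁻¹ := fun a ha =>
    eq_inv_of_mul_eq_one_left (by rw [← pow_three']; exact ha3 a ha)
  -- the quadratic lemma on the weight space
  have hLv : ∀ a ∈ A, ∀ q ∈ Q, f q (a * q * a⁻¹) = 1 → ∀ v : V, v ∈ W → ρ (a * q * a⁻¹) v = ρ q v := by
    intro a ha q hq h
    have hq' := hAQ a ha q hq
    have hq'' : a⁻¹ * q * a ∈ Q := by simpa using hAQ a⁻¹ (inv_mem ha) q hq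
    have h' : f q (a⁻¹ * q * a) = 1 := by
      rw [hfsymm q hq _ hq'', ← hfinv a (hABle ha) _ hq'' q hq]
      rw [show a * (a⁻¹ * q * a) * a⁻¹ = q by group]
      exact h
    let ρW : ∀ g, g ∈ Q ∨ g ∈ A → Module.End K W := fun g hg => (ρ g).restrict (hWinv g hg)
    set e := ρW q (Or.inl hq) with he
    set n := ρW a (Or.inr ha) - 1 with hn
    have hn2 : n * n = 0 := LinearMap.ext fun v => Subtype.ext (by
      have := LinearMap.congr_fun (hquad a ha) (v : V)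
      simpa [hn, ρW] using this)
    have hinvn : (1 : Module.End K W) - n = ρW a⁻¹ (Or.inr (inv_mem ha)) := by
      refine LinearMap.ext fun v => Subtype.ext ?_
      have h1 : ρ a⁻¹ = 1 - (ρ a - 1) := by
        have hmul : (1 - (ρ a - 1)) * ρ a = 1 := by
          have := hquad a ha
          calc (1 - (ρ a - 1)) * ρ a = 1 - (ρ a - 1) * (ρ a - 1) := by noncomm_ring
            _ = 1 := by rw [this, sub_zero]
        calc ρ a⁻¹ = (1 - (ρ a - 1)) * ρ a * ρ a⁻¹ := by rw [hmul, one_mul]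
          _ = 1 - (ρ a - 1) := by rw [mul_assoc, ← map_mul, mul_inv_cancel, map_one, mul_one]
      simp [hn, ρW, h1]
    have h1n : (1 : Module.End K W) + n = ρW a (Or.inr ha) := by rw [hn]; abel
    obtain ⟨j, hj⟩ := hQ ⟨q, hq⟩
    have hqj : q ^ 2 ^ j = 1 := congrArg Subtype.val hj
    have hcomm := commute_of_quad (K := K) h2 (e := e) (n := n) (2 ^ j)
      (by push_cast; exact pow_ne_zero _ h2) ?_ hn2 ?_ ?_
    · intro v hv
      have hv' : ρ a⁻¹ v ∈ W := hWinv _ (Or.inr (inv_mem ha)) v hv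
      have h5 := congrArg Subtype.val (LinearMap.congr_fun hcomm.eq ⟨_, hv'⟩)
      simp [he, hn, ρW] at h5
      rw [rep_mul, rep_mul, ← h5]
    · refine LinearMap.ext fun v => Subtype.ext ?_
      have : ∀ m : ℕ, ∀ v : W, ((e ^ m) v : V) = ρ (q ^ m) v := by
        intro m
        induction m with
        | zero => intro v; simp
        | succ m ih =>
          intro v
          rw [pow_succ', Module.End.mul_apply, pow_succ', rep_mul, ← ih]
          rfl
      rw [this, hqj, map_one]; rfl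
    · rw [h1n, hinvn]
      refine LinearMap.ext fun v => Subtype.ext ?_
      show ρ q (ρ a (ρ q (ρ a⁻¹ v))) = ρ a (ρ q (ρ a⁻¹ (ρ q v)))
      have h8 := hfW q hq _ hq' v v.2
      rw [h, one_smul] at h8
      simp only [rep_mul] at h8
      exact h8
    · rw [h1n, hinvn]
      refine LinearMap.ext fun v => Subtype.ext ?_
      show ρ q (ρ a⁻¹ (ρ q (ρ a v))) = ρ a⁻¹ (ρ q (ρ a (ρ q v)))
      have h8 := hfW q hq _ hq'' v v.2
      rw [h', one_smul] at h8
      simp only [rep_mul] at h8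
      exact h8
  have hL : ∀ a ∈ A, ∀ q ∈ Q, f q (a * q * a⁻¹) = 1 → φ (a * q * a⁻¹) = φ q := by
    intro a ha q hq h
    have hq' := hAQ a ha q hq
    have hvq := hLv a ha q hq h
    funext s
    show f (a * q * a⁻¹) s = f q s
    have hsv := hWinv _ (Or.inl s.2) v₁ hv₁W
    have hqv := hWinv _ (Or.inl hq) v₁ hv₁W
    have h6 := hfW _ hq' s s.2 v₁ hv₁W
    rw [hvq _ hsv, hvq _ hv₁W, hfW q hq s s.2 v₁ hv₁W] at h6
    refine (smul_left_injective K ?_ h6).symm
    intro h0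
    apply hv₁0
    have h7 := congrArg (ρ ((s : Γ) * q)⁻¹) h0
    rwa [map_zero, ← rep_mul ρ (s : Γ) q, ← rep_mul, inv_mul_cancel, map_one, Module.End.one_apply] at h7
  -- the moved spaces
  let M : Γ → Set (↥Q → K) := fun a => {F | ∃ r ∈ Q, F = φ (a * r * a⁻¹ * r⁻¹)}
  have hMQ : ∀ a ∈ A, ∀ r ∈ Q, a * r * a⁻¹ * r⁻¹ ∈ Q := fun a ha r hr =>
    mul_mem (hAQ a ha r hr) (inv_mem hr)
  have hMmul : ∀ a ∈ A, ∀ r ∈ Q, ∀ r' ∈ Q,
      φ (a * (r * r') * a⁻¹ * (r * r')⁻¹) = φ (a * r * a⁻¹ * r⁻¹) * φ (a * r' * a⁻¹ * r'⁻¹) := by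
    intro a ha r hr r' hr'
    have h1 := hMQ a ha r' hr'
    rw [show a * (r * r') * a⁻¹ * (r * r')⁻¹ = (a * r * a⁻¹ * r⁻¹) * (r * (a * r' * a⁻¹ * r'⁻¹) * r⁻¹) by group,
      hφmul _ (hMQ a ha r hr) _ (mul_mem (mul_mem hr h1) (inv_mem hr)),
      hφmul _ (mul_mem hr h1) _ (inv_mem hr), hφmul r hr _ h1, mul_comm (φ r), mul_assoc (φ _) (φ r),
      ← hφmul r hr _ (inv_mem hr), mul_inv_cancel, hφ1, mul_one]
  -- the relation of order three
  have hrel : ∀ a ∈ A, ∀ r ∈ Q, ∀ d, d = a * r * a⁻¹ * r⁻¹ →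
      φ (a⁻¹ * d * a) = φ d * φ (a * d * a⁻¹) := by
    intro a ha r hr d hd
    have hdQ : d ∈ Q := hd ▸ hMQ a ha r hr
    have hd1 : a * d * a⁻¹ ∈ Q := hAQ a ha d hdQ
    have hd2 : a⁻¹ * d * a ∈ Q := by simpa using hAQ a⁻¹ (inv_mem ha) d hdQ
    have e2 : a⁻¹ * d * a = (a * a) * d * (a * a)⁻¹ := by rw [ha2 a ha]; group
    have hprod : (a * a) * d * (a * a)⁻¹ * (a * d * a⁻¹) * d = 1 := by
      have h3 : a * (a * a) = 1 := by rw [← pow_three]; exact ha3 a ha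
      rw [hd, show (a * a) * (a * r * a⁻¹ * r⁻¹) * (a * a)⁻¹ * (a * (a * r * a⁻¹ * r⁻¹) * a⁻¹) *
          (a * r * a⁻¹ * r⁻¹) = (a * (a * a)) * r * (a * (a * a))⁻¹ * r⁻¹ by group, h3]
      group
    rw [← e2] at hprod
    have h4 := congrArg φ hprod
    rw [hφmul _ (mul_mem hd2 hd1) _ hdQ, hφmul _ hd2 _ hd1, hφ1] at h4
    calc φ (a⁻¹ * d * a) = φ (a⁻¹ * d * a) * (φ (a * d * a⁻¹) * φ (a * d * a⁻¹)) * (φ d * φ d) := by
          rw [hφsq _ hd1, hφsq _ hdQ, mul_one, mul_one]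
      _ = (φ (a⁻¹ * d * a) * φ (a * d * a⁻¹) * φ d) * (φ d * φ (a * d * a⁻¹)) := by ac_rfl
      _ = φ d * φ (a * d * a⁻¹) := by rw [h4, one_mul]
  -- moved elements are not fixed
  have hmove : ∀ a ∈ A, ∀ r ∈ Q, ∀ d, d = a * r * a⁻¹ * r⁻¹ → φ (a * d * a⁻¹) = φ d → φ d = 1 := by
    intro a ha r hr d hd h
    have hdQ : d ∈ Q := hd ▸ hMQ a ha r hr
    have h2' : φ (a⁻¹ * d * a) = φ d := by
      have := hφinv a⁻¹ (inv_mem (hABle ha)) _ (hAQ a ha d hdQ) _ hdQ h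
      rw [show a⁻¹ * (a * d * a⁻¹) * a⁻¹⁻¹ = d by group, inv_inv] at this
      exact this.symm
    rw [hrel a ha r hr d hd, h, hφsq d hdQ] at h2'
    exact h2'.symm
  -- the moved space has four elements
  have hfour : ∀ a ∈ A, ∀ r ∈ Q, ∀ d, d = a * r * a⁻¹ * r⁻¹ → φ d ≠ 1 → ∀ F ∈ M a,
      F = 1 ∨ F = φ d ∨ F = φ (a * d * a⁻¹) ∨ F = φ d * φ (a * d * a⁻¹) := by
    intro a ha r hr d hd hd0
    have hdQ : d ∈ Q := hd ▸ hMQ a ha r hr
    have hd1 : a * d * a⁻¹ ∈ Q := hAQ a ha d hdQ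
    set d' := a * d * a⁻¹ with hd'
    have hdd' : f d d' = -1 := (hfsign d hdQ d' hd1).resolve_left fun h =>
      hd0 (hmove a ha r hr d hd (hL a ha d hdQ h))
    have hd'M : φ d' ∈ M a := ⟨a * r * a⁻¹, hAQ a ha r hr, by rw [hd', hd]; congr 1; group⟩
    have orth : ∀ r' ∈ Q, ∀ v, v = a * r' * a⁻¹ * r'⁻¹ → f d v = 1 → f d' v = 1 → φ v = 1 := by
      intro r' hr' v hv h1 h1'
      have hvQ : v ∈ Q := hv ▸ hMQ a ha r' hr'
      by_contra hv0
      set v' := a * v * a⁻¹ with hv'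
      have hv1 : v' ∈ Q := hAQ a ha v hvQ
      have hvv' : f v v' = -1 := (hfsign v hvQ v' hv1).resolve_left fun h =>
        hv0 (hmove a ha r' hr' v hv (hL a ha v hvQ h))
      have hd2 : a⁻¹ * d * a ∈ Q := by simpa using hAQ a⁻¹ (inv_mem ha) d hdQ
      have hdv' : f d v' = 1 := by
        have e : d = a * (a⁻¹ * d * a) * a⁻¹ := by group
        rw [e, hv', hfinv a (hABle ha) _ hd2 v hvQ]
        have h5 := congrFun (hrel a ha r hr d hd) ⟨v, hvQ⟩
        simp only [hφ, Pi.mul_apply] at h5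
        rw [h5, h1, h1', one_mul]
      have hdv : f (d * v) (d' * v') = 1 := by
        rw [hfl d hdQ v hvQ _ (mul_mem hd1 hv1), hfr d hdQ d' hd1 v' hv1, hfr v hvQ d' hd1 v' hv1,
          hdd', hdv', hfsymm v hvQ d' hd1, h1', hvv']
        ring
      have hw : φ (d * v) = φ (a * (r * r') * a⁻¹ * (r * r')⁻¹) := by
        rw [hMmul a ha r hr r' hr', hφmul d hdQ v hvQ, hd, hv]
      have hfix : φ (a * (d * v) * a⁻¹) = φ (d * v) := hL a ha _ (mul_mem hdQ hvQ) (by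
        rw [show a * (d * v) * a⁻¹ = d' * v' by rw [hd', hv']; group]; exact hdv)
      set w := a * (r * r') * a⁻¹ * (r * r')⁻¹ with hwdef
      have hwQ : w ∈ Q := hMQ a ha _ (mul_mem hr hr')
      have h6 : φ w = 1 := by
        refine hmove a ha _ (mul_mem hr hr') w hwdef ?_
        rw [← hφinv a (hABle ha) _ (mul_mem hdQ hvQ) _ hwQ hw, hfix, hw]
      have h7 : φ v = φ d := by
        calc φ v = φ d * φ d * φ v := by rw [hφsq d hdQ, one_mul]
          _ = φ d * φ (d * v) := by rw [hφmul d hdQ v hvQ, mul_assoc]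
          _ = φ d := by rw [hw, h6, mul_one]
      have h8 := congrFun h7 ⟨d', hd1⟩
      simp only [hφ] at h8
      rw [hfsymm v hvQ d' hd1, h1', hdd'] at h8
      exact hneg h8.symm
    have comb : ∀ t, t ∈ Q → ∀ F ∈ M a, f d t = 1 → f d' t = 1 → F = φ t → F = 1 := by
      rintro t ht F ⟨r', hr', rfl⟩ h1 h2 hF
      refine orth r' hr' _ rfl ?_ ?_
      · rw [hfsymm d hdQ _ (hMQ a ha r' hr')]
        have := congrFun hF ⟨d, hdQ⟩
        simp only [hφ] at this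
        rw [this, hfsymm t ht d hdQ, h1]
      · rw [hfsymm d' hd1 _ (hMQ a ha r' hr')]
        have := congrFun hF ⟨d', hd1⟩
        simp only [hφ] at this
        rw [this, hfsymm t ht d' hd1, h2]
    rintro F ⟨r', hr', rfl⟩
    set v := a * r' * a⁻¹ * r'⁻¹ with hv
    have hvQ : v ∈ Q := hMQ a ha r' hr'
    have hcase : ∀ s, s ∈ Q → φ s ∈ M a → f d s = f d v → f d' s = f d' v → φ v = φ s := by
      rintro s hs ⟨r'', hr'', hs'⟩ h1 h2
      have h3 : φ (v * s) = 1 := by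
        refine comb (v * s) (mul_mem hvQ hs) _ ⟨r' * r'', mul_mem hr' hr'', ?_⟩ ?_ ?_ rfl
        · rw [hMmul a ha r' hr' r'' hr'', hφmul v hvQ s hs, ← hs', hv]
        · rw [hfr d hdQ v hvQ s hs, h1, hfsq d hdQ v hvQ]
        · rw [hfr d' hd1 v hvQ s hs, h2, hfsq d' hd1 v hvQ]
      calc φ v = φ v * (φ s * φ s) := by rw [hφsq s hs, mul_one]
        _ = φ (v * s) * φ s := by rw [hφmul v hvQ s hs, mul_assoc]
        _ = φ s := by rw [h3, one_mul]
    have hdM : φ d ∈ M a := ⟨r, hr, by rw [hd]⟩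
    rcases hfsign d hdQ v hvQ with h1 | h1 <;> rcases hfsign d' hd1 v hvQ with h2 | h2
    · exact Or.inl (orth r' hr' v hv h1 h2)
    · refine Or.inr (Or.inl (hcase d hdQ hdM (by rw [hfself d hdQ, h1]) ?_))
      rw [hfsymm d' hd1 d hdQ, hdd', h2]
    · refine Or.inr (Or.inr (Or.inl (hcase d' hd1 hd'M (by rw [hdd', h1]) ?_)))
      rw [hfself d' hd1, h2]
    · refine Or.inr (Or.inr (Or.inr ?_))
      rw [← hφmul d hdQ d' hd1]
      refine hcase _ (mul_mem hdQ hd1) ?_ ?_ ?_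
      · obtain ⟨r2, hr2, e2⟩ := hd'M
        exact ⟨r * r2, mul_mem hr hr2, by rw [hMmul a ha r hr r2 hr2, hφmul d hdQ d' hd1, e2, hd]⟩
      · rw [hfr d hdQ d hdQ d' hd1, hfself d hdQ, hdd', h1]; ring
      · rw [hfr d' hd1 d hdQ d' hd1, hfself d' hd1, hfsymm d' hd1 d hdQ, hdd', h2]; ring
  -- some element moves
  have hex : ∃ a ∈ A, ∃ r ∈ Q, φ (a * r * a⁻¹ * r⁻¹) ≠ 1 := by
    by_contra hall
    push Not at hall
    -- then the image of `Q` on the weight space centralises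
    have hfix : φ (a₁ * q₁ * a₁⁻¹) = φ q₁ := by
      have h := hall a₁ ha₁ q₁ hq₁
      rw [hφmul _ (hAQ a₁ ha₁ q₁ hq₁) _ (inv_mem hq₁)] at h
      have h' : φ q₁⁻¹ * φ q₁ = 1 := by rw [← hφmul _ (inv_mem hq₁) _ hq₁, inv_mul_cancel, hφ1]
      calc φ (a₁ * q₁ * a₁⁻¹) = φ (a₁ * q₁ * a₁⁻¹) * (φ q₁⁻¹ * φ q₁) := by rw [h', mul_one]
        _ = φ q₁ := by rw [← mul_assoc, h, one_mul]
    have h1 : f q₁ (a₁ * q₁ * a₁⁻¹) = 1 := by
      have := congrFun hfix ⟨q₁, hq₁⟩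
      simp only [hφ] at this
      rw [hfsymm q₁ hq₁ _ (hAQ a₁ ha₁ q₁ hq₁), this, hfself q₁ hq₁]
    -- the commutator lemma again, on vectors
    refine hv₁ ?_
    rw [rep_mul, hLv a₁ ha₁ q₁ hq₁ h1 _ (hWinv _ (Or.inl (inv_mem hq₁)) _ hv₁W), ← rep_mul ρ q₁ q₁⁻¹,
      mul_inv_cancel, map_one, Module.End.one_apply]
  -- the action on functions
  let σ : Γ → (↥Q → K) → (↥Q → K) := fun g F s =>
    if h : g⁻¹ * (s : Γ) * g ∈ Q then F ⟨g⁻¹ * (s : Γ) * g, h⟩ else 1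
  have hconjQ : ∀ g ∈ B, ∀ x ∈ Q, g * x * g⁻¹ ∈ Q := fun g hg x hx =>
    (mem_normalizer_iff.1 (hBQ hg) x).1 hx
  have hconjQ' : ∀ g ∈ B, ∀ x ∈ Q, g⁻¹ * x * g ∈ Q := fun g hg x hx => by
    simpa using hconjQ g⁻¹ (inv_mem hg) x hx
  have hσφ : ∀ g ∈ B, ∀ x ∈ Q, σ g (φ x) = φ (g * x * g⁻¹) := by
    intro g hg x hx
    funext s
    have hs := hconjQ' g hg (s : Γ) s.2
    simp only [σ, dif_pos hs, hφ]
    conv_rhs => rw [show (s : Γ) = g * (g⁻¹ * s * g) * g⁻¹ by group]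
    exact (hfinv g hg x hx _ hs).symm
  have hσσ : ∀ g ∈ B, ∀ h ∈ B, ∀ F, σ g (σ h F) = σ (g * h) F := by
    intro g hg h hh F
    funext s
    have hs := hconjQ' g hg (s : Γ) s.2
    have hs' := hconjQ' h hh _ hs
    have hs'' : (g * h)⁻¹ * (s : Γ) * (g * h) ∈ Q := hconjQ' _ (mul_mem hg hh) (s : Γ) s.2
    simp only [σ, dif_pos hs, dif_pos hs', dif_pos hs'']
    exact congrArg F (Subtype.ext (by group))
  have hσ1 : ∀ F, σ 1 F = F := by
    intro F
    funext s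
    have hs : (1 : Γ)⁻¹ * (s : Γ) * 1 ∈ Q := by simp
    simp only [σ, dif_pos hs]
    exact congrArg F (Subtype.ext (by simp))
  have hσmul : ∀ g ∈ B, ∀ F F', σ g (F * F') = σ g F * σ g F' := by
    intro g hg F F'
    funext s
    simp only [σ, Pi.mul_apply, dif_pos (hconjQ' g hg (s : Γ) s.2)]
  have hσ_one : ∀ g ∈ B, σ g 1 = 1 := by
    intro g hg
    funext s
    simp only [σ, Pi.one_apply, dif_pos (hconjQ' g hg (s : Γ) s.2)]
  have hMσ : ∀ g ∈ B, ∀ a ∈ A, ∀ F ∈ M a, σ g F ∈ M (g * a * g⁻¹) := by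
    rintro g hg a ha F ⟨r, hr, rfl⟩
    exact ⟨g * r * g⁻¹, hconjQ g hg r hr, by rw [hσφ g hg _ (hMQ a ha r hr)]; congr 1; group⟩
  have hMσA : ∀ g ∈ A, ∀ a ∈ A, ∀ F ∈ M a, σ g F ∈ M a := fun g hg a ha F hF => by
    have h := hMσ g (hABle hg) a ha F hF
    rwa [hAcomm g hg a ha, mul_inv_cancel_right] at h
  have hM1 : ∀ a ∈ A, (1 : ↥Q → K) ∈ M a := fun a _ => ⟨1, one_mem Q, by rw [← hφ1]; congr 1; group⟩
  have hMm : ∀ a ∈ A, ∀ F ∈ M a, ∀ F' ∈ M a, F * F' ∈ M a := by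
    rintro a ha F ⟨r, hr, rfl⟩ F' ⟨r', hr', rfl⟩
    exact ⟨r * r', mul_mem hr hr', (hMmul a ha r hr r' hr').symm⟩
  have hMsq : ∀ a ∈ A, ∀ F ∈ M a, F * F = 1 := by
    rintro a ha F ⟨r, hr, rfl⟩
    exact hφsq _ (hMQ a ha r hr)
  have hMfix : ∀ a ∈ A, ∀ F ∈ M a, σ a F = F → F = 1 := by
    rintro a ha F ⟨r, hr, rfl⟩ h
    rw [hσφ a (hABle ha) _ (hMQ a ha r hr)] at h
    exact hmove a ha r hr _ rfl h
  have hMfour : ∀ a ∈ A, ∀ X ∈ M a, X ≠ 1 → ∀ F ∈ M a,
      F = 1 ∨ F = X ∨ F = σ a X ∨ F = X * σ a X := by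
    rintro a ha X ⟨r, hr, rfl⟩ hX F hF
    rw [hσφ a (hABle ha) _ (hMQ a ha r hr)]
    exact hfour a ha r hr _ rfl hX F hF
  have hMcomm : ∀ a ∈ A, ∀ x ∈ Q, σ a (φ x) * φ x ∈ M a := by
    intro a ha x hx
    refine ⟨x, hx, ?_⟩
    rw [hσφ a (hABle ha) x hx, hφmul _ (hAQ a ha x hx) _ (inv_mem hx)]
    congr 1
    calc φ x = φ x * (φ x * φ x⁻¹) := by rw [← hφmul x hx _ (inv_mem hx), mul_inv_cancel, hφ1, mul_one]
      _ = φ x⁻¹ := by rw [← mul_assoc, hφsq x hx, one_mul]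
  have hXne : ∀ a ∈ A, ∀ X ∈ M a, X ≠ 1 → σ a X * X ≠ 1 := fun a ha X hX hX0 h => hX0 (hMfix a ha X hX
    (by
      calc σ a X = σ a X * (X * X) := by rw [hMsq a ha X hX, mul_one]
        _ = X := by rw [← mul_assoc, h, one_mul]))
  obtain ⟨a, ha, r, hr, hd0⟩ := hex
  set X := φ (a * r * a⁻¹ * r⁻¹) with hX
  have hXM : X ∈ M a := ⟨r, hr, rfl⟩
  -- all moving elements of `A` have the same moved space
  have hsame : ∀ b ∈ A, (∃ F ∈ M b, F ≠ 1) → ∀ F, F ∈ M b ↔ F ∈ M a := by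
    rintro b hb ⟨e, he, he0⟩
    by_cases hbX : σ b X = X
    swap
    · set Y := σ b X * X with hY
      have hYa : Y ∈ M a := hMm a ha _ (hMσA b hb a ha X hXM) _ hXM
      have hYb : Y ∈ M b := hMcomm b hb _ (hMQ a ha r hr)
      have hY0 : Y ≠ 1 := fun h => hbX (by
        calc σ b X = σ b X * (X * X) := by rw [hMsq a ha X hXM, mul_one]
          _ = X := by rw [← mul_assoc, ← hY, h, one_mul])
      have hbY := hMσA b hb a ha Y hYa
      have hcases : σ b Y = σ a Y ∨ σ b Y = Y * σ a Y := by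
        rcases hMfour a ha Y hYa hY0 _ hbY with h | h | h | h
        · refine absurd ?_ hY0
          have h' := congrArg (σ b⁻¹) h
          rwa [hσσ _ (inv_mem (hABle hb)) _ (hABle hb), inv_mul_cancel, hσ1,
            hσ_one _ (inv_mem (hABle hb))] at h'
        · exact absurd (hMfix b hb Y hYb h) hY0
        · exact Or.inl h
        · exact Or.inr h
      have haY := hMσA a ha a ha Y hYa
      have hbY' := hMσA b hb b hb Y hYb
      intro F
      constructor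
      · intro hF
        rcases hMfour b hb Y hYb hY0 F hF with rfl | rfl | rfl | rfl
        exacts [hM1 a ha, hYa, hbY, hMm a ha _ hYa _ hbY]
      · intro hF
        have haYb : σ a Y ∈ M b := by
          rcases hcases with h | h
          · exact h ▸ hbY'
          · have := hMm b hb _ hYb _ hbY'
            rwa [h, ← mul_assoc, hMsq a ha Y hYa, one_mul] at this
        rcases hMfour a ha Y hYa hY0 F hF with rfl | rfl | rfl | rfl
        exacts [hM1 b hb, hYb, haYb, hMm b hb _ hYb _ haYb]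
    · exfalso
      have haB := hABle ha
      have hbB := hABle hb
      have hfixa : ∀ F ∈ M a, σ b F = F := by
        have h1 : σ b (σ a X) = σ a X := by
          rw [hσσ _ hbB _ haB, hAcomm b hb a ha, ← hσσ _ haB _ hbB, hbX]
        intro F hF
        rcases hMfour a ha X hXM hd0 F hF with rfl | rfl | rfl | rfl
        exacts [hσ_one b hbB, hbX, h1, by rw [hσmul b hbB, hbX, h1]]
      have hmix : ∀ F ∈ M a, F ∈ M b → F = 1 := fun F h h' => hMfix b hb F h' (hfixa F h)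
      obtain ⟨s, hs, rfl⟩ := he
      set x := b * s * b⁻¹ * s⁻¹
      have hxQ : x ∈ Q := hMQ b hb s hs
      have hex' : φ x ∈ M b := ⟨s, hs, rfl⟩
      have hae : σ a (φ x) = φ x := by
        have h := hmix _ (hMcomm a ha x hxQ) (hMm b hb _ (hMσA a ha b hb _ hex') _ hex')
        calc σ a (φ x) = σ a (φ x) * (φ x * φ x) := by rw [hφsq x hxQ, mul_one]
          _ = φ x := by rw [← mul_assoc, h, one_mul]
      set c := a * b
      have hc : c ∈ A := mul_mem ha hb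
      have hσc : ∀ F, σ c F = σ a (σ b F) := fun F => (hσσ _ haB _ hbB F).symm
      set Z := σ a X * X with hZ
      have hZa : Z ∈ M a := hMm a ha _ (hMσA a ha a ha X hXM) _ hXM
      have hZc : Z ∈ M c := by
        have := hMcomm c hc _ (hMQ a ha r hr)
        rwa [← hX, hσc, hbX] at this
      have hZ0 : Z ≠ 1 := hXne a ha X hXM hd0
      set e' := σ b (φ x) * φ x with he'
      have he'b : e' ∈ M b := hMm b hb _ (hMσA b hb b hb _ hex') _ hex'
      have he'0 : e' ≠ 1 := hXne b hb _ hex' he0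
      have he'c : e' ∈ M c := by
        have := hMcomm c hc x hxQ
        rwa [hσc, hσσ _ haB _ hbB, hAcomm a ha b hb, ← hσσ _ hbB _ haB, hae] at this
      have hcZ : σ c Z ∈ M a := by rw [hσc, hfixa Z hZa]; exact hMσA a ha a ha Z hZa
      refine he'0 (hmix e' ?_ he'b)
      rcases hMfour c hc Z hZc hZ0 e' he'c with h | h | h | h <;> rw [h]
      exacts [hM1 a ha, hZa, hcZ, hMm a ha _ hZa _ hcZ]
  -- the normalising group permutes the moved space
  have hinv : ∀ g ∈ B, ∀ F ∈ M a, σ g F ∈ M a := by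
    intro g hg F hF
    have hga : g * a * g⁻¹ ∈ A := (mem_normalizer_iff.1 (hBA hg) a).1 ha
    refine (hsame _ hga ⟨σ g X, hMσ g hg a ha X hXM, fun h => hd0 ?_⟩ _).1 (hMσ g hg a ha F hF)
    have h' := congrArg (σ g⁻¹) h
    rwa [hσσ _ (inv_mem hg) _ hg, inv_mul_cancel, hσ1, hσ_one _ (inv_mem hg)] at h'
  let S := {F : ↥Q → K // F ∈ M a ∧ F ≠ 1}
  have hne1 : ∀ g ∈ B, ∀ F : ↥Q → K, F ≠ 1 → σ g F ≠ 1 := fun g hg F hF h => hF (by
    have h' := congrArg (σ g⁻¹) h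
    rwa [hσσ _ (inv_mem hg) _ hg, inv_mul_cancel, hσ1, hσ_one _ (inv_mem hg)] at h')
  let π : ↥B →* Equiv.Perm S :=
    { toFun := fun g =>
        { toFun := fun F => ⟨σ g F, hinv g g.2 _ F.2.1, hne1 g g.2 _ F.2.2⟩
          invFun := fun F => ⟨σ (g : Γ)⁻¹ F, hinv _ (inv_mem g.2) _ F.2.1, hne1 _ (inv_mem g.2) _ F.2.2⟩
          left_inv := fun F => Subtype.ext (by
            show σ (g : Γ)⁻¹ (σ g F) = F
            rw [hσσ _ (inv_mem g.2) _ g.2, inv_mul_cancel, hσ1])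
          right_inv := fun F => Subtype.ext (by
            show σ g (σ (g : Γ)⁻¹ F) = F
            rw [hσσ _ g.2 _ (inv_mem g.2), mul_inv_cancel, hσ1]) }
      map_one' := Equiv.ext fun F => Subtype.ext (hσ1 _)
      map_mul' := fun g h => Equiv.ext fun F => Subtype.ext (hσσ _ g.2 _ h.2 _).symm }
  have hsub : {F : ↥Q → K | F ∈ M a ∧ F ≠ 1} ⊆ {X, σ a X, X * σ a X} := by
    rintro F ⟨hF, hF0⟩
    rcases hMfour a ha X hXM hd0 F hF with h | h | h | h
    · exact absurd h hF0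
    all_goals simp [h]
  haveI : Finite S := (Set.Finite.subset (Set.toFinite _) hsub).to_subtype
  have hS3 : Nat.card S ≤ 3 := by
    have h := Set.ncard_le_ncard hsub
    rw [← Nat.card_coe_set_eq] at h
    exact h.trans ((Set.ncard_insert_le _ _).trans (Nat.succ_le_succ
      ((Set.ncard_insert_le _ _).trans (by simp))))
  have hrange : IsCyclic π.range := by
    haveI := Fact.mk Nat.prime_three
    obtain ⟨k, hk⟩ := IsPGroup.iff_card.1 (hB.of_surjective _ π.rangeRestrict_surjective)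
    have h6 : Nat.card π.range ∣ 6 := by
      refine (Subgroup.card_subgroup_dvd_card π.range).trans ?_
      rw [Nat.card_perm]
      exact Nat.factorial_dvd_factorial hS3
    have hk1 : k ≤ 1 := by
      by_contra hlt
      rw [hk] at h6
      have := Nat.le_of_dvd (by norm_num) ((pow_dvd_pow 3 (by omega : 2 ≤ k)).trans h6)
      norm_num at this
    rcases Nat.le_one_iff_eq_zero_or_eq_one.1 hk1 with rfl | rfl
    · haveI : Subsingleton π.range := (Nat.card_eq_one_iff_unique.1 (by rw [hk, pow_zero])).1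
      exact isCyclic_of_subsingleton
    · exact isCyclic_of_prime_card (p := 3) (by rw [hk, pow_one])
  have hker : ⁅B, B⁆ ≤ π.ker.map B.subtype := by
    refine commutator_le.2 fun g hg h hh => ⟨⁅(⟨g, hg⟩ : B), ⟨h, hh⟩⁆, ?_, rfl⟩
    rw [SetLike.mem_coe, MonoidHom.mem_ker, map_commutatorElement, commutatorElement_eq_one_iff_mul_comm]
    exact congrArg Subtype.val ((IsCyclic.commGroup (α := π.range)).mul_comm
      ⟨π ⟨g, hg⟩, _, rfl⟩ ⟨π ⟨h, hh⟩, _, rfl⟩)
  obtain ⟨a', ha', haa⟩ := hker (hABc ha)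
  refine hd0 (hMfix a ha X hXM ?_)
  have h := congrArg Subtype.val (Equiv.ext_iff.1 (MonoidHom.mem_ker.1 ha') ⟨X, hXM, hd0⟩)
  change σ (a' : Γ) X = X at h
  rwa [show (a' : Γ) = a from haa] at h

/-- A quadratic abelian group inside the derived group of a normalising 3-group centralises every
invariant 2-group. -/
theorem centralizes (hinj : Function.Injective ρ) (hB : IsPGroup 3 B) (hABc : A ≤ ⁅B, B⁆)
    (hAcomm : ∀ a ∈ A, ∀ a' ∈ A, a * a' = a' * a) (hBA : B ≤ normalizer (A : Set Γ))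
    (hquad : ∀ a ∈ A, (ρ a - 1) * (ρ a - 1) = 0)
    (hAB2 : ∀ a ∈ A, ∀ b ∈ B, (ρ a - 1) * ((ρ b - 1) * (ρ b - 1)) = 0)
    (Q : Subgroup Γ) (hQ : IsPGroup 2 Q) (hBQ : B ≤ normalizer (Q : Set Γ)) :
    ∀ a ∈ A, ∀ q ∈ Q, a * q * a⁻¹ * q⁻¹ = 1 := by
  classical
  haveI := Fact.mk Nat.prime_two
  revert hQ hBQ
  induction Q using WellFoundedLT.induction with
  | _ Q ih =>
  intro hQ hBQ
  have hABle : A ≤ B := hABc.trans (commutator_le.2 fun g hg h hh =>
    mul_mem (mul_mem (mul_mem hg hh) (inv_mem hg)) (inv_mem hh))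
  have hconjQ : ∀ g ∈ B, ∀ x ∈ Q, g * x * g⁻¹ ∈ Q := fun g hg x hx =>
    (mem_normalizer_iff.1 (hBQ hg) x).1 hx
  -- proper invariant subgroups are centralised
  have hsub : ∀ D : Subgroup Γ, D < Q → (∀ g ∈ B, ∀ x ∈ D, g * x * g⁻¹ ∈ D) →
      ∀ a ∈ A, ∀ x ∈ D, a * x = x * a := by
    intro D hD hDB a ha x hx
    refine mul_inv_eq_iff_eq_mul.1 (mul_inv_eq_one.1 (ih D hD (hQ.to_le hD.le) ?_ a ha x hx))
    intro g hg
    exact mem_normalizer_iff.2 fun y =>
      ⟨hDB g hg y, fun h => by simpa [mul_assoc] using hDB g⁻¹ (inv_mem hg) _ h⟩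
  have hclosed : ∀ T : Set Γ, (∀ g ∈ B, ∀ x ∈ T, g * x * g⁻¹ ∈ T) →
      ∀ g ∈ B, ∀ x ∈ closure T, g * x * g⁻¹ ∈ closure T := by
    intro T hT g hg x hx
    induction hx using closure_induction with
    | mem x hx => exact subset_closure (hT g hg x hx)
    | one => simp
    | mul x y _ _ hx hy => rw [← conj_mul]; exact mul_mem hx hy
    | inv x _ hx => rw [← conj_inv]; exact inv_mem hx
  set T1 : Set Γ := {d | ∃ a ∈ A, ∃ q ∈ Q, d = a * q * a⁻¹ * q⁻¹} with hT1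
  have hT1B : ∀ g ∈ B, ∀ x ∈ T1, g * x * g⁻¹ ∈ T1 := by
    rintro g hg _ ⟨a, ha, q, hq, rfl⟩
    exact ⟨g * a * g⁻¹, (mem_normalizer_iff.1 (hBA hg) a).1 ha, g * q * g⁻¹, hconjQ g hg q hq, by group⟩
  have hD1le : closure T1 ≤ Q := (closure_le _).2 (by
    rintro _ ⟨a, ha, q, hq, rfl⟩
    exact mul_mem (hconjQ a (hABle ha) q hq) (inv_mem hq))
  by_cases hD1 : closure T1 = Q
  swap
  · intro a ha q hq
    set d := a * q * a⁻¹ * q⁻¹ with hd
    have hdT : d ∈ closure T1 := subset_closure ⟨a, ha, q, hq, rfl⟩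
    have hcomm : Commute a d :=
      hsub _ (lt_of_le_of_ne hD1le hD1) (hclosed T1 hT1B) a ha d hdT
    have hiter : ∀ m : ℕ, a ^ m * q * (a ^ m)⁻¹ = d ^ m * q := by
      intro m
      induction m with
      | zero => simp
      | succ m ih =>
        calc a ^ (m + 1) * q * (a ^ (m + 1))⁻¹ = a * (a ^ m * q * (a ^ m)⁻¹) * a⁻¹ := by
              rw [pow_succ']; group
          _ = a * d ^ m * a⁻¹ * (a * q * a⁻¹) := by rw [ih]; group
          _ = d ^ (m + 1) * q := by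
              rw [(hcomm.pow_right m).eq, mul_inv_cancel_right,
                show a * q * a⁻¹ = d * q by rw [hd]; group, ← mul_assoc, ← pow_succ]
    obtain ⟨k, hk⟩ := hB ⟨a, hABle ha⟩
    have hak : a ^ 3 ^ k = 1 := congrArg Subtype.val hk
    have hdk : d ^ 3 ^ k = 1 := by
      have h := hiter (3 ^ k)
      rw [hak] at h
      simpa using h.symm
    obtain ⟨j, hj⟩ := hQ ⟨d, hD1le hdT⟩
    have hdj : d ^ 2 ^ j = 1 := congrArg Subtype.val hj
    exact orderOf_eq_one_iff.1 (Nat.eq_one_of_dvd_coprimes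
      (((by norm_num : Nat.Coprime 3 2)).pow k j) (orderOf_dvd_of_pow_eq_one hdk)
      (orderOf_dvd_of_pow_eq_one hdj))
  by_cases hQ1 : Q = ⊥
  · intro a ha q hq
    rw [hQ1, mem_bot] at hq
    subst hq
    group
  set T2 : Set Γ := {z | (∃ q ∈ Q, ∃ r ∈ Q, z = q * r * q⁻¹ * r⁻¹) ∨ ∃ q ∈ Q, z = q * q} with hT2
  set D2 := closure T2 with hD2
  have hT2B : ∀ g ∈ B, ∀ x ∈ T2, g * x * g⁻¹ ∈ T2 := by
    rintro g hg _ (⟨q, hq, r, hr, rfl⟩ | ⟨q, hq, rfl⟩)
    · exact Or.inl ⟨g * q * g⁻¹, hconjQ g hg q hq, g * r * g⁻¹, hconjQ g hg r hr, by group⟩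
    · exact Or.inr ⟨g * q * g⁻¹, hconjQ g hg q hq, by group⟩
  have hD2le : D2 ≤ (frattini Q).map Q.subtype := by
    obtain ⟨hcom, hpow⟩ := CfsgLib.PGroupBasic.commutator_pow_le_frattini hQ
    refine (closure_le _).2 ?_
    rintro _ (⟨q, hq, r, hr, rfl⟩ | ⟨q, hq, rfl⟩)
    · refine ⟨⁅(⟨q, hq⟩ : Q), ⟨r, hr⟩⁆, hcom ?_, rfl⟩
      exact commutator_mem_commutator (mem_top _) (mem_top _)
    · exact ⟨(⟨q, hq⟩ : Q) ^ 2, hpow _, by simp [sq]⟩
  have hD2lt : D2 < Q := by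
    refine lt_of_le_of_lt hD2le ?_
    haveI : Nontrivial Q := Subgroup.nontrivial_iff_ne_bot Q |>.2 hQ1
    obtain ⟨M, hM⟩ := (eq_top_or_exists_le_coatom (⊥ : Subgroup Q)).resolve_left bot_ne_top
    have hlt : frattini Q < ⊤ := lt_of_le_of_lt (frattini_le_coatom hM.1) hM.1.lt_top
    have h := (Subgroup.map_lt_map_iff_of_injective Q.subtype_injective).2 hlt
    rwa [← MonoidHom.range_eq_map, Subgroup.range_subtype] at h
  have hD2A := hsub D2 hD2lt (hclosed T2 hT2B)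
  have hD2n : ∀ z ∈ D2, ∀ q ∈ Q, z * q * z⁻¹ * q⁻¹ ∈ D2 := fun z hz q hq =>
    subset_closure (Or.inl ⟨z, hD2lt.le hz, q, hq, rfl⟩)
  -- the three subgroups lemma
  have hcen : ∀ z ∈ D2, ∀ q ∈ Q, z * q = q * z := by
    have h1 : ⁅⁅A, D2⁆, Q⁆ = ⊥ := by
      rw [commutator_eq_bot_iff_le_centralizer.2 fun a ha => mem_centralizer_iff.2 fun z hz =>
        (hD2A a ha z hz).symm, commutator_bot_left]
    have h2 : ⁅⁅D2, Q⁆, A⁆ = ⊥ := by
      rw [commutator_eq_bot_iff_le_centralizer]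
      intro x hx
      refine mem_centralizer_iff.2 fun a ha => hD2A a ha x ?_
      exact (commutator_le.2 fun z hz q hq => hD2n z hz q hq) hx
    have h3 := commutator_commutator_eq_bot_of_rotate h1 h2
    intro z hz q hq
    have hq' : q ∈ ⁅Q, A⁆ := by
      rw [commutator_comm]
      have hle : closure T1 ≤ ⁅A, Q⁆ := (closure_le _).2 (by
        rintro _ ⟨a, ha, r, hr, rfl⟩
        exact commutator_mem_commutator ha hr)
      exact hle (hD1.symm ▸ hq)
    exact mem_centralizer_iff.1 (commutator_eq_bot_iff_le_centralizer.1 h3 hq') z hz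
  let E : Subgroup Γ :=
    { carrier := {z | z ∈ D2 ∧ z * z = 1}
      mul_mem' := fun {x y} hx hy => ⟨mul_mem hx.1 hy.1, by
        rw [mul_assoc, ← mul_assoc y x y, hcen y hy.1 x (hD2lt.le hx.1), mul_assoc, hy.2, mul_one]
        exact hx.2⟩
      one_mem' := ⟨one_mem _, one_mul 1⟩
      inv_mem' := fun {x} hx => ⟨inv_mem hx.1, by rw [← mul_inv_rev, hx.2, inv_one]⟩ }
  refine centralizes_of_special ρ hinj hQ hB hABc hAcomm hBA hBQ hquad hAB2 E
    (fun z hz => ⟨hD2lt.le hz.1, hz.2, fun q hq => hcen z hz.1 q hq,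
      fun a ha => (hD2A a ha z hz.1).symm⟩) ?_ ?_
  · intro g hg
    have h : ∀ g ∈ B, ∀ y ∈ E, g * y * g⁻¹ ∈ E := fun g hg y hy =>
      ⟨hclosed T2 hT2B g hg y hy.1, by rw [conj_mul, hy.2, mul_one, mul_inv_cancel]⟩
    exact mem_normalizer_iff.2 fun y =>
      ⟨h g hg y, fun hy => by simpa [mul_assoc] using h g⁻¹ (inv_mem hg) _ hy⟩
  · intro q hq r hr
    refine ⟨subset_closure (Or.inl ⟨q, hq, r, hr, rfl⟩), ?_⟩
    set c := q * r * q⁻¹ * r⁻¹ with hc
    have hcq : c * q = q * c := hcen c (subset_closure (Or.inl ⟨q, hq, r, hr, rfl⟩)) q hq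
    have hsq : q * q * r = r * (q * q) := hcen _ (subset_closure (Or.inr ⟨q, hq, rfl⟩)) r hr
    calc c * c = q * c * q⁻¹ * c := by rw [← hcq, mul_inv_cancel_right]
      _ = q * q * r * (q * q)⁻¹ * r⁻¹ := by rw [hc]; group
      _ = 1 := by rw [hsq]; group

end Main

end CfsgLib.HallHigman.Quad
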