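/-
The degree bound of Hall and Higman on the Frattini quotient, and the derived-length step.
-/
import Cfsg.Agent.HallHigman.FrattiniRep
import Cfsg.Agent.HallHigman.Quadratic

set_option autoImplicit false
set_option linter.style.haveILetI false
set_option linter.unusedSectionVars false

namespace CfsgLib.HallHigman.FRep

open Subgroup CfsgLib.FGSA
open scoped IsMulCommutative commutatorElement

universe u

variable {p : ℕ} [hp : Fact p.Prime] {Y : Type u} [Group Y] [Finite Y]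

/-- The image of an element of the `p`-core in the Frattini quotient. -/
noncomputable def elt (u : Y) (hu : u ∈ core p Y) : Additive (quot p Y) :=
  Additive.ofMul ⟨(u : Y ⧸ phi p Y), u, hu, rfl⟩

theorem exists_elt (v : Additive (quot p Y)) : ∃ u hu, v = elt (p := p) (Y := Y) u hu := by
  obtain ⟨u, hu, h⟩ := exists_lift v
  exact ⟨u, hu, congrArg Additive.ofMul (Subtype.ext h.symm)⟩

theorem commutator_mem_core (g : Y) {u : Y} (hu : u ∈ core p Y) : ⁅g, u⁆ ∈ core p Y :=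
  mul_mem ((core_normal p Y).conj_mem u hu g) (inv_mem hu)

theorem act_sub_one_elt (g u : Y) (hu : u ∈ core p Y) :
    (act p Y g - 1) (elt u hu) = elt ⁅g, u⁆ (commutator_mem_core g hu) := by
  refine congrArg Additive.ofMul (?_ : Additive.toMul ((act p Y g - 1) (elt u hu)) =
    Additive.toMul (elt ⁅g, u⁆ (commutator_mem_core g hu)))
  refine Subtype.ext ?_
  rw [act_sub_one_apply]
  show (g : Y ⧸ phi p Y) * (u : Y ⧸ phi p Y) * (g : Y ⧸ phi p Y)⁻¹ * (u : Y ⧸ phi p Y)⁻¹ =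
    ((⁅g, u⁆ : Y) : Y ⧸ phi p Y)
  rw [commutatorElement_def, QuotientGroup.mk_mul, QuotientGroup.mk_mul, QuotientGroup.mk_mul,
    QuotientGroup.mk_inv, QuotientGroup.mk_inv]

theorem elt_eq_zero {u : Y} (hu : u ∈ core p Y) (h : u = 1) : elt u hu = (0 : Additive (quot p Y)) := by
  subst h; rfl

/-- Theorem B on the Frattini quotient, for elements of order `p`. -/
theorem bound {d : ℕ} (hp2 : p ≠ 2)
    (ρ : Representation (AlgebraicClosure (ZMod p)) (Y ⧸ core p Y) (Fin d → AlgebraicClosure (ZMod p)))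
    (hρ : Function.Injective ρ) {q : ℕ} (hq : q.Prime) (hqp : q ≠ p) (Q : Subgroup (Y ⧸ core p Y))
    (hQ : IsPGroup q Q) {x : Y ⧸ core p Y} (hxQ : x ∈ normalizer (Q : Set (Y ⧸ core p Y))) (hx : x ^ p = 1)
    (hmove : ∃ g ∈ Q, x * g * x⁻¹ * g⁻¹ ≠ 1) (s : ℕ) (hs : (ρ x - 1) ^ s = 0) :
    p ≤ s ∨ (q = 2 ∧ p - 1 ≤ s ∧ ∃ m, p = 2 ^ m + 1) := by
  haveI := Fact.mk hq
  have hmv : CfsgLib.HallHigman.Moves ρ Q (x ^ p ^ (1 - 1)) := by
    obtain ⟨g, hg, hne⟩ := hmove
    refine ⟨g, hg, fun h => hne ?_⟩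
    rw [Nat.sub_self, pow_zero, pow_one, ← map_one ρ] at h
    have h' := hρ h
    rw [show x * g * x⁻¹ * g⁻¹ = (g * x * g⁻¹ * x⁻¹)⁻¹ by group, h', inv_one]
  rcases CfsgLib.HallHigman.hallHigmanB (K := AlgebraicClosure (ZMod p)) (p := p) (q := q) (Ne.symm hqp) 1
      le_rfl (Y ⧸ core p Y) (Fin d → AlgebraicClosure (ZMod p)) ρ Q x hQ hxQ (by rw [pow_one]; exact hx)
      hmv s hs with h | ⟨n₀, m, h1, h2, h3, h4, h5, -⟩
  · exact Or.inl (by simpa using h)
  · obtain rfl : n₀ = 1 := le_antisymm h2 h1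
    rw [pow_one] at h4
    simp only [Nat.sub_self, pow_zero, one_mul, pow_one] at h5
    have hodd : Odd p := hp.out.odd_of_ne_two hp2
    have h2p := hp.out.two_le
    have heven : 2 ∣ q ^ m := by
      rw [← h4]; exact (Nat.Odd.sub_odd hodd odd_one).two_dvd
    obtain rfl : 2 = q := (Nat.prime_dvd_prime_iff_eq Nat.prime_two hq).1 (Nat.prime_two.dvd_of_dvd_pow heven)
    exact Or.inr ⟨rfl, h5, m, by omega⟩

/-- The last non-trivial derived subgroup of a Sylow `p`-subgroup lies in the `p`-core. -/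
theorem derived_step (hp2 : p ≠ 2) (h0 : Cfsg.pPrimeCore p Y = ⊥) (hs : Cfsg.IsPSolvable p Y)
    (P A B : Subgroup Y) (hP : IsPGroup p P) (hFP : core p Y ≤ P) (hBP : B ≤ P)
    (hPA : P ≤ normalizer (A : Set Y)) (hPB : P ≤ normalizer (B : Set Y)) (hAB : A = ⁅B, B⁆)
    (hA : ∀ a ∈ A, ∀ a' ∈ A, a * a' = a' * a) : A ≤ core p Y := by
  classical
  have hABle : A ≤ B := hAB.le.trans (commutator_le.2 fun g hg h hh =>
    mul_mem (mul_mem (mul_mem hg hh) (inv_mem hg)) (inv_mem hh))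
  have hAP : A ≤ P := hABle.trans hBP
  obtain ⟨d, f, ρ, -, hρ, hρf⟩ := exists_rep h0 hs
  have hnA : ∀ g ∈ P, ∀ x ∈ A, g * x * g⁻¹ ∈ A := fun g hg x hx => (mem_normalizer_iff.1 (hPA hg) x).1 hx
  have hnB : ∀ g ∈ P, ∀ x ∈ B, g * x * g⁻¹ ∈ B := fun g hg x hx => (mem_normalizer_iff.1 (hPB hg) x).1 hx
  have hcA : ∀ a ∈ A, ∀ u ∈ P, ⁅a, u⁆ ∈ A := fun a ha u hu => by
    rw [commutatorElement_def, mul_assoc a u, mul_assoc]
    exact mul_mem ha (hnA u hu _ (inv_mem ha))
  have hquad : ∀ a ∈ A, (act p Y a - 1) * (act p Y a - 1) = 0 := by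
    intro a ha
    refine DFunLike.ext (F := AddMonoid.End (Additive (quot p Y))) _ _ fun v => ?_
    obtain ⟨u, hu, rfl⟩ := exists_elt v
    show (act p Y a - 1) ((act p Y a - 1) (elt u hu)) = 0
    rw [act_sub_one_elt a u hu, act_sub_one_elt a _ (commutator_mem_core a hu)]
    exact elt_eq_zero _ (commutatorElement_eq_one_iff_mul_comm.2 (hA a ha _ (hcA a ha u (hFP hu))))
  have hAB2 : ∀ a ∈ A, ∀ b ∈ B, (act p Y a - 1) * ((act p Y b - 1) * (act p Y b - 1)) = 0 := by
    intro a ha b hb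
    refine DFunLike.ext (F := AddMonoid.End (Additive (quot p Y))) _ _ fun v => ?_
    obtain ⟨u, hu, rfl⟩ := exists_elt v
    show (act p Y a - 1) ((act p Y b - 1) ((act p Y b - 1) (elt u hu))) = 0
    rw [act_sub_one_elt b u hu, act_sub_one_elt b _ (commutator_mem_core b hu),
      act_sub_one_elt a _ (commutator_mem_core b (commutator_mem_core b hu))]
    refine elt_eq_zero _ (commutatorElement_eq_one_iff_mul_comm.2 (hA a ha _ ?_))
    have hbu : ⁅b, u⁆ ∈ B := by
      rw [commutatorElement_def, mul_assoc b u, mul_assoc]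
      exact mul_mem hb (hnB u (hFP hu) _ (inv_mem hb))
    exact hAB ▸ commutator_mem_commutator hb hbu
  intro a ha
  by_contra haF
  set φ := QuotientGroup.mk' (core p Y) with hφ
  have hP' : IsPGroup p (P.map φ) := hP.map φ
  have ha1 : φ a ≠ 1 := fun h => haF ((QuotientGroup.eq_one_iff a).1 h)
  obtain ⟨q, Q, hq, hqp, hQ, hPQ, hmove⟩ := exists_moved core_quotient_eq_bot
    (CfsgLib.PConstrained.isPSolvable_map φ (QuotientGroup.mk'_surjective _) hs) (P.map φ) hP'
    (mem_map_of_mem φ (hAP ha)) ha1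
  have hsq : ∀ x ∈ A, (ρ (φ x) - 1) * (ρ (φ x) - 1) = 0 := by
    intro x hx
    rw [hφ, QuotientGroup.mk'_apply, hρf, ← map_one f, ← map_sub, ← map_mul, hquad x hx, map_zero]
  have hxp : φ a ^ p = 1 := by
    rw [← map_pow]
    refine (QuotientGroup.eq_one_iff _).2 (mem_of_act_eq_one h0 hs ?_)
    have hsq' : (act p Y a - 1) ^ 2 = 0 := by rw [sq]; exact hquad a ha
    set n := act p Y a - 1 with hn
    rw [map_pow, show act p Y a = n + 1 by rw [hn, sub_add_cancel], (Commute.one_right n).add_pow]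
    refine (Finset.sum_eq_single 0 ?_ (by simp)).trans (by simp)
    intro i hi hi0
    rcases Nat.lt_or_ge i 2 with h | h
    · obtain rfl : i = 1 := by omega
      rw [Nat.choose_one_right, pow_one, one_pow, mul_one]
      refine DFunLike.ext (F := AddMonoid.End (Additive (quot p Y))) _ _ fun v => ?_
      show n ((p : AddMonoid.End (Additive (quot p Y))) v) = 0
      rw [AddMonoid.End.natCast_apply, zmod_smul, map_zero]
    · rw [pow_eq_zero_of_le h hsq', zero_mul, zero_mul]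
  rcases bound hp2 ρ hρ hq hqp Q hQ (hPQ (mem_map_of_mem φ (hAP ha))) hxp hmove 2
      (by rw [sq]; exact hsq a ha) with h | ⟨rfl, h, -⟩
  · have := hp.out.two_le
    omega
  · -- the quadratic lemma in characteristic three
    obtain rfl : p = 3 := by
      have := hp.out.two_le
      omega
    obtain ⟨g, hg, hne⟩ := hmove
    haveI : CharP (AlgebraicClosure (ZMod 3)) 3 :=
      charP_of_injective_algebraMap (algebraMap (ZMod 3) (AlgebraicClosure (ZMod 3))).injective 3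
    refine hne (Quad.centralizes ρ (A := A.map φ) (B := B.map φ) hρ (hP'.to_le (Subgroup.map_mono hBP))
      ?_ ?_ ?_ ?_ ?_ Q hQ ((Subgroup.map_mono hBP).trans hPQ) (φ a) (mem_map_of_mem φ ha) g hg)
    · rw [hAB, Subgroup.map_commutator]
    · rintro _ ⟨x, hx, rfl⟩ _ ⟨y, hy, rfl⟩
      rw [← map_mul, hA x hx y hy, map_mul]
    · exact (Subgroup.map_mono (hBP.trans hPA)).trans (Subgroup.le_normalizer_map φ)
    · rintro _ ⟨x, hx, rfl⟩
      exact hsq x hx
    · rintro _ ⟨x, hx, rfl⟩ _ ⟨y, hy, rfl⟩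
      rw [hφ, QuotientGroup.mk'_apply, QuotientGroup.mk'_apply, hρf, hρf, ← map_one f, ← map_sub, ← map_sub,
        ← map_mul, ← map_mul, hAB2 x hx y hy, map_zero]

/-- An abelian Sylow `p`-subgroup lies in the `p`-core. -/
theorem abelian_step (h0 : Cfsg.pPrimeCore p Y = ⊥) (hs : Cfsg.IsPSolvable p Y) (P : Subgroup Y)
    (hFP : core p Y ≤ P) (hA : ∀ a ∈ P, ∀ a' ∈ P, a * a' = a' * a) : P ≤ core p Y := by
  intro x hx
  refine mem_of_act_eq_one h0 hs (DFunLike.ext (F := AddMonoid.End (Additive (quot p Y))) _ _ fun v => ?_)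
  obtain ⟨u, hu, rfl⟩ := exists_elt v
  refine congrArg Additive.ofMul (Subtype.ext ?_ : Additive.toMul (act p Y x (elt u hu)) = Additive.toMul (elt u hu))
  rw [act_apply]
  show (x : Y ⧸ phi p Y) * (u : Y ⧸ phi p Y) * (x : Y ⧸ phi p Y)⁻¹ = (u : Y ⧸ phi p Y)
  rw [← QuotientGroup.mk_mul, hA x hx u (hFP hu), QuotientGroup.mk_mul, mul_inv_cancel_right]

end CfsgLib.HallHigman.FRep
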